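import Groth.Agent.Divis.RegStalk
import Groth.Agent.Grpsch.ConormalIso
import Groth.Agent.Dual.H339.OmegaRank
import Groth.Agent.S1676

/-!
# The graph section of an open immersion into a compactification

`f : X ⟶ S` separated and smooth of relative dimension `d`, `f = j ≫ fb` with `j` an open immersion and `fb` separated:
the section `(j, 𝟙) : X ⟶ Xb ×_S X` of the second projection is a regular closed immersion with conormal
module `Ω_{X/S}`.
-/

set_option autoImplicit false

universe u

open CategoryTheory CategoryTheory.Limits AlgebraicGeometry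

namespace Groth.Agent.K477.GraphSec

open Groth.Agent.Divis.RegImm Groth.Agent.Divis.RegStalk

variable {X S Xb : Scheme.{u}} (f : X ⟶ S) (j : X ⟶ Xb) (fb : Xb ⟶ S) (w : j ≫ fb = f)

/-- The section `(j, 𝟙)`. -/
noncomputable def sec : X ⟶ pullback fb f := pullback.lift j (𝟙 X) (by rw [w, Category.id_comp])

@[reassoc (attr := simp)]
theorem sec_fst : sec f j fb w ≫ pullback.fst fb f = j := pullback.lift_fst _ _ _

@[reassoc (attr := simp)]
theorem sec_snd : sec f j fb w ≫ pullback.snd fb f = 𝟙 X := pullback.lift_snd _ _ _

/-- The open immersion `X ×_S X ⟶ Xb ×_S X`. -/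
noncomputable def opn : pullback f f ⟶ pullback fb f :=
  pullback.lift (pullback.fst f f ≫ j) (pullback.snd f f) (by
    rw [Category.assoc, w, pullback.condition])

@[reassoc (attr := simp)]
theorem opn_fst : opn f j fb w ≫ pullback.fst fb f = pullback.fst f f ≫ j := pullback.lift_fst _ _ _

@[reassoc (attr := simp)]
theorem opn_snd : opn f j fb w ≫ pullback.snd fb f = pullback.snd f f := pullback.lift_snd _ _ _

theorem isPullback_opn : IsPullback (opn f j fb w) (pullback.fst f f) (pullback.fst fb f) j := by
  refine IsPullback.of_right (h₁₂ := pullback.snd fb f) (h₂₂ := fb) (v₁₃ := f) ?_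
    (opn_fst f j fb w) (IsPullback.of_hasPullback fb f).flip
  rw [opn_snd, w]
  exact (IsPullback.of_hasPullback f f).flip

instance isOpenImmersion_opn [IsOpenImmersion j] : IsOpenImmersion (opn f j fb w) :=
  MorphismProperty.of_isPullback (P := @IsOpenImmersion) (isPullback_opn f j fb w).flip inferInstance

theorem diagonal_opn : pullback.diagonal f ≫ opn f j fb w = sec f j fb w := by
  apply pullback.hom_ext
  · simp
  · simp

instance isClosedImmersion_sec [IsSeparated fb] : IsClosedImmersion (sec f j fb w) := by
  have : IsClosedImmersion (sec f j fb w ≫ pullback.snd fb f) := by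
    rw [sec_snd]
    infer_instance
  exact IsClosedImmersion.of_comp (sec f j fb w) (pullback.snd fb f)

theorem isPullback_diagonal [IsOpenImmersion j] :
    IsPullback (pullback.diagonal f) (𝟙 X) (opn f j fb w) (sec f j fb w) :=
  IsPullback.of_vert_isIso_mono ⟨by rw [diagonal_opn, Category.id_comp]⟩

/-- The graph section is a regular closed immersion. -/
theorem isRegularClosedImmersion_sec [IsOpenImmersion j] [IsSeparated fb] [IsSeparated f] [Smooth f] :
    Mor2.IsRegularClosedImmersion (sec f j fb w) := by
  have h1 : Mor2.IsRegularClosedImmersion (pullback.diagonal f) :=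
    S1676.result (pullback.snd f f) (pullback.diagonal f) (pullback.diagonal_snd f)
  rw [isRegularClosedImmersion_iff] at h1 ⊢
  refine ⟨inferInstance, fun z => ?_⟩
  have h2 : (pullback.diagonal f).ker = (sec f j fb w).ker.comap (opn f j fb w) := by
    have h3 := Scheme.IdealSheafData.ker_fst_of_isClosedImmersion (sec f j fb w) (opn f j fb w)
    rw [← h3]
    have h4 : (isPullback_diagonal f j fb w).isoPullback.hom ≫
      pullback.fst (opn f j fb w) (sec f j fb w) = pullback.diagonal f := by simp
    rw [← h4, Scheme.Hom.ker_comp_of_isIso]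
  have h5 := h1.2 z
  rw [h2, regAt_comap_iff_of_isOpenImmersion, ← Scheme.Hom.comp_apply, diagonal_opn] at h5
  exact h5

/-- The conormal module of the graph section. -/
theorem nonempty_conormal_iso [IsOpenImmersion j] [IsSeparated fb] [IsSeparated f] :
    Nonempty (Omega.conormal (sec f j fb w) ≅ Omega.sheaf f) := by
  have h := Grpsch.ConormalIso.isIso_conormalMap_of_flat (isPullback_diagonal f j fb w)
  exact ⟨((Scheme.Modules.pullbackId X).app (Omega.conormal (sec f j fb w))).symm ≪≫
    @asIso _ _ _ _ _ h⟩

theorem isFinLocFreeOfRank_of_iso {M N : X.Modules} {r : ℕ} (e : M ≅ N)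
    (h : FlatMod.IsFinLocFreeOfRank r M) : FlatMod.IsFinLocFreeOfRank r N := by
  intro x
  obtain ⟨U, hx, ⟨a⟩⟩ := h x
  exact ⟨U, hx, ⟨((Scheme.Modules.restrictFunctor U.ι).mapIso e).symm ≪≫ a⟩⟩

theorem isFinLocFreeOfRank_conormal_sec (d : ℕ) [IsOpenImmersion j] [IsSeparated fb] [IsSeparated f]
    [SmoothOfRelativeDimension d f] :
    FlatMod.IsFinLocFreeOfRank d (Omega.conormal (sec f j fb w)) := by
  obtain ⟨e⟩ := nonempty_conormal_iso f j fb w
  exact isFinLocFreeOfRank_of_iso e.symm (Dual.H339.OmegaRank.isFinLocFreeOfRank_omega d f)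

end Groth.Agent.K477.GraphSec
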