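import Groth.Agent.Dual3.K477.SecCore
import Groth.Agent.Dual3.K477.GraphSec
import Groth.Agent.Dual.H351.PairRestrict
import Groth.Agent.Dual.H355.ClosedAll
import Groth.Agent.Dual.H366.ExtQCoh
import Groth.Agent.Dual.H366.ConSec
import Groth.Agent.Dual.H375.ExtRestr
import Groth.Agent.PerfA.PCohQCoh
import Groth.Agent.PerfA.Restrict
import Groth.Agent.S0911
import Groth.Agent.Dual.H339.Final

/-!
# The relative dualizing complex of a smooth separated morphism over an arbitrary base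

* `univ_of_isUnivArrow`, `isZero_HD_iff_arrow`, `core_arrow`: the fundamental local isomorphism for a regular closed
  immersion `i : X ⟶ Y` of arbitrary schemes, for universal arrows on all of `D(O_X)`;
* `nonempty_iso`: if `f` is smooth of relative dimension `n` and separated and `K` is a relative dualizing complex
  for `f`, then `K ≅ Ω^n_f[n]`.
-/

set_option autoImplicit false

universe u

open CategoryTheory CategoryTheory.Limits AlgebraicGeometry

attribute [local instance] HasDerivedCategory.standard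

namespace Groth.Agent.K477.RelDualSm

open Groth.Agent Groth.Agent.Dual.H339 Groth.Agent.Ega1.ADualUniv Groth.Agent.Dual.H339.DualPair
  Groth.Agent.LoccohB Groth.Agent.PerfA.Restrict Groth.Agent.Sga67.KosImm Groth.Agent.Sga67.KosGlobal
  Groth.Agent.Dual.H351.UnivArrow Groth.Agent.Dual.H339.LocalDeg

variable {X Y : Scheme.{u}}

/-- A universal arrow on all of `D(O_X)` gives a universal pair. -/
theorem univ_of_isUnivArrow (i : X ⟶ Y) [DCoh.HasRpush i] [IsClosedImmersion i]
    [PreservesFiniteLimits (Scheme.Modules.pushforward i)]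
    [PreservesFiniteColimits (Scheme.Modules.pushforward i)] {K : DCoh.D Y} {L : DCoh.D X}
    {ξ : (Dual3.pushD i).obj L ⟶ K} (h : IsUnivArrow i ξ) (hL : DCoh.IsQCohD L) : Univ i K L := by
  let e : DCoh.Rpush i ≅ Dual3.pushD i := Groth.Agent.PerfC.LpullFlat.rpushIso i
  refine ⟨e.hom.app L ≫ ξ, ⟨hL, fun N hN => ?_⟩⟩
  have h3 : Function.Bijective (fun g : (Dual3.pushD i).obj N ⟶ K => e.hom.app N ≫ g) :=
    ((e.app N).symm.homFromEquiv (Z := K)).bijective
  convert h3.comp (h N) using 1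
  funext g
  simp only [Function.comp_apply]
  exact e.hom.naturality_assoc g ξ

/-- `i^! K [m] ≅ Li^* K` over a chart. -/
theorem nonempty_chart_iso' (i : X ⟶ Y) [IsClosedImmersion i] [DCoh.HasLpull i]
    [PreservesFiniteLimits (Scheme.Modules.pushforward i)]
    [PreservesFiniteColimits (Scheme.Modules.pushforward i)] (c : Chart i) {K : DCoh.D Y} {L : DCoh.D X}
    (hK : DCoh.IsQCohD K) (hL : DCoh.IsQCohD L) {ξ : (Dual3.pushD i).obj L ⟶ K} (h : IsUnivArrow i ξ) :
    Nonempty (((restrictD (c.hU.preimage i).fromSpec).obj L)⟦(c.l.length : ℤ)⟧ ≅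
      (restrictD (c.hU.preimage i).fromSpec).obj ((DCoh.Lpull i).obj K)) := by
  have hp := isPullback_chart i c.U c.hU
  have : DCoh.HasRpush (Spec.map (i.app c.U)) := Dcoh.DerSch.hasRpush _
  have : DCoh.HasLpull (Spec.map (i.app c.U)) := S0959.result _
  have : IsClosedImmersion (Spec.map (i.app c.U)) :=
    IsClosedImmersion.spec_of_surjective _ (i.app_surjective c.U c.hU)
  have : PreservesFiniteColimits (Scheme.Modules.pushforward (Spec.map (i.app c.U))) :=
    Sga67.ClosedPush.preservesFiniteColimits_pushforward _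
  have h1 : Univ (Spec.map (i.app c.U)) ((restrictD c.hU.fromSpec).obj K)
      ((restrictD (c.hU.preimage i).fromSpec).obj L) :=
    univ_of_isUnivArrow _ (h.restrict hp) (PerfA.QCohD.isQCohD_restrictD _ hL)
  have h2 : DCoh.IsQCohD ((restrictD c.hU.fromSpec).obj K) := PerfA.QCohD.isQCohD_restrictD _ hK
  obtain ⟨e1⟩ := nonempty_iso_of_isGood (i.app c.U) (i.app_surjective c.U c.hU) _ (isGood_chart i c) h2 h1
  obtain ⟨e2⟩ := PerfB.LpullOpens.nonempty_lpullRestrict (c.hU.preimage i).fromSpec i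
    (Spec.map (i.app c.U)) c.hU.fromSpec hp.w
  exact ⟨e1 ≪≫ (e2.app K).symm⟩

/-- `H^q(Li^* K) = 0` iff `H^{m+q}(i^! K) = 0`. -/
theorem isZero_HD_iff' (i : X ⟶ Y) [IsClosedImmersion i] [DCoh.HasLpull i]
    [PreservesFiniteLimits (Scheme.Modules.pushforward i)]
    [PreservesFiniteColimits (Scheme.Modules.pushforward i)]
    (hi : Mor2.IsRegularClosedImmersion i) {m : ℕ}
    (hN : FlatMod.IsFinLocFreeOfRank m (Omega.conormal i)) {K : DCoh.D Y} {L : DCoh.D X}
    (hK : DCoh.IsQCohD K) (hL : DCoh.IsQCohD L) {ξ : (Dual3.pushD i).obj L ⟶ K} (h : IsUnivArrow i ξ)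
    (q r : ℤ) (hqr : m + q = r) :
    IsZero (DCoh.HD ((DCoh.Lpull i).obj K) q) ↔ IsZero (DCoh.HD L r) := by
  rw [isZero_iff_stalk, isZero_iff_stalk]
  refine forall_congr' fun x => ?_
  obtain ⟨c, hc, -⟩ := exists_chart hi x ⊤ trivial
  have hl : c.l.length = m := length_eq hN c x hc
  obtain ⟨e⟩ := nonempty_chart_iso' i c hK hL h
  let j := (c.hU.preimage i).fromSpec
  obtain ⟨y, hy⟩ : ∃ y, j y = x := ⟨(c.hU.preimage i).primeIdealOf ⟨x, hc⟩,
    (c.hU.preimage i).fromSpec_primeIdealOf ⟨x, hc⟩⟩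
  let e1 : (DCoh.HD L r).restrict j ≅ (DCoh.HD ((DCoh.Lpull i).obj K) q).restrict j :=
    (PerfA.Restrict.HDrestrict j L r).symm ≪≫
      (LoccohB.DQCohBasic.homologyShiftIso ((restrictD j).obj L) (c.l.length : ℤ) q r
        (by rw [hl]; exact hqr)).symm ≪≫
      (DerivedCategory.homologyFunctor _ q).mapIso e ≪≫ PerfA.Restrict.HDrestrict j ((DCoh.Lpull i).obj K) q
  have e2 := (stalkRestrict j y).app (DCoh.HD L r)
  have e3 := (stalkRestrict j y).app (DCoh.HD ((DCoh.Lpull i).obj K) q)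
  rw [← hy]
  exact (e3.symm ≪≫ (stalkAb y).mapIso e1.symm ≪≫ e2).isZero_iff

/-- `Li^* M ≅ Λ^d C_i [d]` if `i^! M = O_X`. -/
theorem core' (d : ℕ) (i : X ⟶ Y) [IsClosedImmersion i] [DCoh.HasLpull i]
    [PreservesFiniteLimits (Scheme.Modules.pushforward i)]
    [PreservesFiniteColimits (Scheme.Modules.pushforward i)] (hi : Mor2.IsRegularClosedImmersion i)
    (hN : FlatMod.IsFinLocFreeOfRank d (Omega.conormal i)) {M : DCoh.D Y} (hM : DCoh.IsQCohD M)
    {ξ : (Dual3.pushD i).obj (DCoh.inD X (Coh.structureModule X)) ⟶ M} (h : IsUnivArrow i ξ)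
    (L : X.Modules) (hL : ExtPow.IsExtPow d (Omega.conormal i) L) :
    Nonempty ((DCoh.Lpull i).obj M ≅ (DCoh.inD X L)⟦(d : ℤ)⟧) := by
  have : DCoh.HasRpush i := Dcoh.DerSch.hasRpush _
  have hO : DCoh.IsQCohD (DCoh.inD X (Coh.structureModule X)) :=
    PerfA.QCohD.isQCohD_inD _ (Ega2.QCohLocal.isQCoh_structureModule X)
  have hdeg : ∀ q : ℤ, q ≠ -(d : ℤ) → IsZero (DCoh.HD ((DCoh.Lpull i).obj M) q) := by
    intro q hq
    rw [isZero_HD_iff' i hi hN hM hO h q (d + q) rfl]
    have i1 : (DCoh.inD X (Coh.structureModule X)).IsGE 0 :=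
      inferInstanceAs (((DerivedCategory.singleFunctor X.Modules 0).obj _).IsGE 0)
    have i2 : (DCoh.inD X (Coh.structureModule X)).IsLE 0 :=
      inferInstanceAs (((DerivedCategory.singleFunctor X.Modules 0).obj _).IsLE 0)
    rcases lt_or_gt_of_ne (show (d : ℤ) + q ≠ 0 by omega) with h' | h'
    · exact DerivedCategory.isZero_of_isGE _ 0 _ h'
    · exact DerivedCategory.isZero_of_isLE _ 0 _ h'
  have hLE : ((DCoh.Lpull i).obj M).IsLE (-(d : ℤ)) := by
    rw [DerivedCategory.isLE_iff]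
    exact fun q hq => hdeg q (by omega)
  have hGE : ((DCoh.Lpull i).obj M).IsGE (-(d : ℤ)) := by
    rw [DerivedCategory.isGE_iff]
    exact fun q hq => hdeg q (by omega)
  have hperf : DCoh.IsPerfect ((DCoh.Rpush i).obj (OD X)) :=
    Dcoh.LocalD.isPerfect_of_iso ((DCoh.Rpush i).mapIso Twist.ODIso.symm)
      (PerfPush.isPerfect_push i hi)
  have hΔ' : Univ i M ((DCoh.inD X (Coh.structureModule X))⟦(0 : ℤ)⟧) :=
    (univ_of_isUnivArrow i h hO).of_iso_left ((shiftFunctorZero (DCoh.D X) ℤ).symm.app _)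
      (PerfC.ProjAbs291.isQCohD_shift hO 0)
  obtain ⟨e2⟩ := Twist.main i hi hperf hL hM (Coh.structureModule X) 0 (-(d : ℤ))
    hΔ' hLE hGE (zero_add _)
  let e3 : L ≅ DCoh.HD ((DCoh.Lpull i).obj M) (-(d : ℤ)) :=
    (Sga67.TensorOps.tensorUnit L).symm ≪≫ e2
  obtain ⟨e4⟩ := LoccohB.DCalc.exists_iso_single ((DCoh.Lpull i).obj M) (-(d : ℤ))
  refine ⟨e4 ≪≫ (DerivedCategory.singleFunctor X.Modules (-(d : ℤ))).mapIso e3.symm ≪≫ ?_⟩
  exact (((DerivedCategory.singleFunctors X.Modules).shiftIso (d : ℤ) (-(d : ℤ)) 0 (by omega)).app L).symm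

theorem sec_id {S : Scheme.{u}} (f : X ⟶ S) :
    GraphSec.sec f (𝟙 X) f (Category.id_comp f) = pullback.diagonal f := rfl

/-- **The relative dualizing complex of a smooth separated morphism is `Ω^n[n]`, over any base.** -/
theorem nonempty_iso {S : Scheme.{u}} (n : ℕ) (f : X ⟶ S) [IsSeparated f] [SmoothOfRelativeDimension n f]
    [DCoh.HasLpull (pullback.fst f f)]
    [PreservesFiniteLimits (Scheme.Modules.pushforward (pullback.diagonal f))]
    [PreservesFiniteColimits (Scheme.Modules.pushforward (pullback.diagonal f))] (K : DCoh.D X)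
    (hK : Dual3.IsRelDualizing f K) (L : X.Modules) (hL : ExtPow.IsExtPow n (Omega.sheaf f) L) :
    Nonempty (K ≅ (DCoh.inD X L)⟦(n : ℤ)⟧) := by
  have hsm : Smooth f := SmoothOfRelativeDimension.smooth n f
  obtain ⟨ξ, hξ⟩ := hK
  obtain ⟨hpc, -, hu⟩ := (Dual.H351.PairRestrict.isRelDualizingPair_iff ξ).1 hξ
  have hKq : DCoh.IsQCohD K := PerfA.PCohQCoh.isQCohD_of_isPseudoCoherentD hpc
  have : DCoh.HasLpull (pullback.diagonal f) := S0959.result _
  have h1 : Mor2.IsRegularClosedImmersion (pullback.diagonal f) :=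
    S1676.result (pullback.snd f f) (pullback.diagonal f) (pullback.diagonal_snd f)
  have h2 : FlatMod.IsFinLocFreeOfRank n (Omega.conormal (pullback.diagonal f)) :=
    GraphSec.isFinLocFreeOfRank_conormal_sec f (𝟙 X) f (Category.id_comp f) n
  obtain ⟨eC⟩ : Nonempty (Omega.conormal (pullback.diagonal f) ≅ Omega.sheaf f) :=
    GraphSec.nonempty_conormal_iso f (𝟙 X) f (Category.id_comp f)
  obtain ⟨L', hL'⟩ := Dual.H366.ExtQCoh.exists_isExtPow n (E := Omega.conormal (pullback.diagonal f))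
    (Dual.H366.ConSec.isQCoh_conormal _)
  obtain ⟨eL⟩ := Dual.H375.ExtRestr.nonempty_iso eC hL' hL
  obtain ⟨e1⟩ := core' n (pullback.diagonal f) h1 h2 (S1054.result (pullback.fst f f) K hKq) hu L' hL'
  have : DCoh.HasLpull (pullback.diagonal f ≫ pullback.fst f f) := S0959.result _
  obtain ⟨e2⟩ := S0911.result (pullback.diagonal f) (pullback.fst f f)
  obtain ⟨e3⟩ := Dual.H339.Final.nonempty_lpullId (pullback.diagonal f ≫ pullback.fst f f) (pullback.diagonal_fst f)
  exact ⟨(e3.app K).symm ≪≫ (e2.app K).symm ≪≫ e1 ≪≫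
    (shiftFunctor (DCoh.D X) (n : ℤ)).mapIso ((DerivedCategory.singleFunctor X.Modules 0).mapIso eL)⟩

end Groth.Agent.K477.RelDualSm
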