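import Groth.Prelude.Def_Dual3
import Groth.Prelude.Def_Pi1
import Groth.Agent.Lefpen.H703.ClosedSmooth
import Groth.Agent.Divis.SurfConn
import Groth.Agent.Divis.ReflexAlg
import Groth.Agent.CalgA.SerreLocal
import Groth.Agent.Ega1.GenPts
import Groth.Agent.LoccohB.AdStruct

/-!
# The smooth locus of a normal variety over a perfect field
-/

set_option autoImplicit false

universe u

open CategoryTheory CategoryTheory.Limits AlgebraicGeometry

namespace Groth.Agent.K477.NormalGeo

open Groth.Agent

variable {k : Type u} [Field k] {X : Scheme.{u}} (p : X ⟶ Spec (CommRingCat.of k))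

/-- Regular points of schemes of finite type over a perfect field are smooth points. -/
theorem mem_smoothLocus_of_regular [PerfectField k] [LocallyOfFiniteType p] (x : X)
    (hx : IsRegularLocalRing (X.presheaf.stalk x)) : x ∈ p.smoothLocus := by
  obtain ⟨n, V, hV, hxV, hn⟩ := Sga4B.RegLocal.exists_standardSmooth p x hx
  have h1 : SmoothOfRelativeDimension n (V.ι ≫ p) :=
    Sga4B.RegLocal.smoothOfRelativeDimension_of_le p V hV n hn V.ι (by rw [Scheme.Opens.range_ι])
  have h2 : Smooth (V.ι ≫ p) := SmoothOfRelativeDimension.smooth n _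
  rw [← Scheme.Hom.smoothLocus_eq_top_iff, ← Scheme.Hom.preimage_smoothLocus_eq] at h2
  have h3 : (⟨x, hxV⟩ : V) ∈ V.ι ⁻¹ᵁ p.smoothLocus := by rw [h2]; trivial
  exact h3

/-- Smooth points are regular. -/
theorem isRegular_of_mem_smoothLocus [LocallyOfFiniteType p] (x : X) (hx : x ∈ p.smoothLocus) :
    IsRegularLocalRing (X.presheaf.stalk x) :=
  VarietyA.RegSmoothSch.isRegularLocalRing_stalk_of_mem_smoothLocus p x hx

/-- A normal connected scheme of finite type over a field is integral. -/
theorem isIntegral [IsLocallyNoetherian X] [ConnectedSpace X] (hX : Pi1.IsNormalScheme X) : IsIntegral X :=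
  (Ega1.GenPts.isIntegral_iff X).2 ⟨inferInstance, fun x => (hX x).1⟩

/-- The points of codimension at most one of a normal scheme are smooth points. -/
theorem mem_smoothLocus_of_dim_le_one [PerfectField k] [LocallyOfFiniteType p] [IsLocallyNoetherian X]
    (hX : Pi1.IsNormalScheme X) (x : X) (hx : ringKrullDim (X.presheaf.stalk x) ≤ 1) : x ∈ p.smoothLocus := by
  have := (hX x).1
  have := (hX x).2
  have : IsPrincipalIdealRing (X.presheaf.stalk x) :=
    Divis.ReflexAlg.isPrincipalIdealRing_of_isIntegrallyClosed hx
  exact mem_smoothLocus_of_regular p x inferInstance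

/-- Outside the smooth locus the depth is at least two. -/
theorem two_le_depth [PerfectField k] [LocallyOfFiniteType p] [IsLocallyNoetherian X]
    (hX : Pi1.IsNormalScheme X) (x : X) (hx : x ∉ p.smoothLocus) :
    (2 : ℕ∞) ≤ LocCoh.depth (X.presheaf.stalk x) (X.presheaf.stalk x) := by
  have := (hX x).1
  have := (hX x).2
  exact CalgA.SerreLocal.two_le_depth_of_isIntegrallyClosed
    fun h => hx (mem_smoothLocus_of_dim_le_one p hX x h)

/-- The smooth locus of an integral scheme of finite type over a perfect field is smooth of relative dimension the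
dimension of the scheme. -/
theorem smoothOfRelativeDimension [PerfectField k] [LocallyOfFiniteType p] [IsIntegral X] (n : ℕ)
    (hdim : topologicalKrullDim X = (n : WithBot ℕ∞)) :
    SmoothOfRelativeDimension n (p.smoothLocus.ι ≫ p) := by
  apply Lefpen.H703.ClosedSmooth.smoothOfRelativeDimension_of_closed
  intro z hz
  have : JacobsonSpace X := LocallyOfFiniteType.jacobsonSpace p
  have hz' : IsClosed ({p.smoothLocus.ι z} : Set X) := by
    have h1 := (p.smoothLocus.ι.isOpenEmbedding.preimage_closedPoints)
    have h2 : z ∈ closedPoints (p.smoothLocus : Scheme.{u}) := hz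
    rw [← h1] at h2
    exact h2
  have h1 := Divis.SurfConn.ringKrullDim_stalk_eq k X p (p.smoothLocus.ι z) hz'
  have h2 := isRegular_of_mem_smoothLocus p (p.smoothLocus.ι z) z.2
  let e : X.presheaf.stalk (p.smoothLocus.ι z) ≃+* (p.smoothLocus : Scheme.{u}).presheaf.stalk z :=
    (asIso (p.smoothLocus.ι.stalkMap z)).commRingCatIsoToRingEquiv
  refine ⟨IsRegularLocalRing.of_ringEquiv e, ?_⟩
  rw [← ringKrullDim_eq_of_ringEquiv e, h1, hdim]

end Groth.Agent.K477.NormalGeo
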