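import Groth.Agent.Dual.H366.ExtQCoh
import Groth.Agent.Dual.H375.ExtRestr
import Groth.Agent.CohqB.FiniteType2
import Groth.Agent.Ega1.QCohLoc

/-!
# Exterior powers of coherent modules are coherent
-/

set_option autoImplicit false

universe u

open CategoryTheory CategoryTheory.Limits AlgebraicGeometry Opposite TopologicalSpace
open Groth.Agent.Sga67.Sec Groth.Agent.Fdesc
open Groth.Agent.Krr.H495.ExtSemi Groth.Agent.Krr.H495.ExtPre

namespace Groth.Agent.K477.ExtCoh

open Groth.Agent Groth.Agent.Dual.H366.ExtQCoh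

variable {X : Scheme.{u}}

/-- The exterior powers of a quasi-coherent module are quasi-coherent. -/
theorem isQCoh_ext {E : X.Modules} (hE : Coh.IsQCoh E) (i : ℕ) : Coh.IsQCoh (ext i E) := by
  refine Ega1.QCohLoc.isQCoh_of_isLocOnAffines _ fun U hU g => ?_
  have hg : IsAffineOpen (X.basicOpen g) := hU.basicOpen g
  constructor
  · intro s
    obtain ⟨t, ht⟩ := (bijective_eta' hE hg i).2 s
    obtain ⟨k, s', hs'⟩ := (locP_extPre i hE).surj U hU g (toPre i E _ t)
    refine ⟨k, papp (eta (extPre i E)) U s', ?_⟩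
    have h1 := papp_pres (eta (extPre i E)) (X.basicOpen_le g) s'
    rw [hs', map_smul] at h1
    have h2 : papp (eta (extPre i E)) (X.basicOpen g) (toPre i E _ t) = s := ht
    rw [h2, map_pow] at h1
    exact h1.symm
  · intro t ht
    obtain ⟨s, rfl⟩ := ((locP_extPre i hE).bijective hU).2 t
    have h1 := papp_pres (eta (extPre i E)) (X.basicOpen_le g) s
    have h2 : papp (eta (extPre i E)) (X.basicOpen g) (pres (extPre i E) (X.basicOpen_le g) s) = 0 := h1.trans ht
    have h3 := ((locP_extPre i hE).bijective hg).1 (h2.trans (map_zero _).symm)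
    obtain ⟨k, hk⟩ := (locP_extPre i hE).inj U hU g s h3
    refine ⟨k, ?_⟩
    have h4 := map_smul (papp (eta (extPre i E)) U) (g ^ k) s
    rw [hk, map_zero] at h4
    exact h4.symm

/-- Exterior powers of quasi-coherent modules are quasi-coherent. -/
theorem isQCoh_of_isExtPow {i : ℕ} {E L : X.Modules} (hE : Coh.IsQCoh E) (hL : ExtPow.IsExtPow i E L) :
    Coh.IsQCoh L := by
  obtain ⟨e⟩ := Dual.H375.ExtRestr.nonempty_iso (Iso.refl E) (isExtPow_ext hE i) hL
  exact Ega1.QCohLoc.isQCoh_of_iso e (isQCoh_ext hE i)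

/-- Exterior powers of coherent modules are coherent. -/
theorem isCoh_of_isExtPow {i : ℕ} {E L : X.Modules} (hE : Coh.IsCoh E) (hL : ExtPow.IsExtPow i E L) :
    Coh.IsCoh L := by
  have hq := isQCoh_of_isExtPow hE.1 hL
  refine ⟨hq, ?_⟩
  have hEq : Coh.IsQCoh E := hE.1
  refine (CohqB.FiniteType2.isFT_iff_finite_sections L).2 fun V hV => ?_
  obtain ⟨φ, -⟩ := hL
  have h1 : Module.Finite Γ(X, V) (Sec E V) :=
    (CohqB.FiniteType2.isFT_iff_finite_sections E).1 hE.2 V hV
  have h2 : Module.Finite Γ(X, V) (⋀[Γ(X, V)]^i (Sec E V)) := inferInstance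
  exact Module.Finite.equiv (φ ⟨V, hV⟩).symm

end Groth.Agent.K477.ExtCoh
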