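import Groth.Agent.Dual3.K477.Lowest
import Groth.Agent.S2054
import Groth.Agent.Divis.ReflexSheaf

/-!
# The lowest cohomology sheaf of a dualizing complex is reflexive at normal points
-/

set_option autoImplicit false
universe u
open CategoryTheory CategoryTheory.Limits AlgebraicGeometry
attribute [local instance] HasDerivedCategory.standard

namespace Groth.Agent.K477.LowestRefl

open Groth.Agent Groth.Agent.CalgB.DzData Groth.Agent.Dual.H342 Groth.Agent.K477.Lowest

variable {X : Scheme.{u}}
  [∀ (U : Scheme.{u}) (j : U ⟶ X) [IsOpenImmersion j], PreservesFiniteLimits (Scheme.Modules.restrictFunctor j)]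
  [∀ (R : CommRingCat.{u}), PreservesFiniteLimits (tilde.functor R)]

/-- At a normal point the lowest cohomology sheaf is reflexive. -/
theorem isReflexive_stalk {K : DCoh.D X} (hK : Dual2.IsDualizingSch X K) (n : ℤ)
    (hlt : ∀ i : ℤ, i < n → IsZero (DCoh.HD K i)) (x : X) [IsDomain (X.presheaf.stalk x)]
    [IsIntegrallyClosed (X.presheaf.stalk x)] :
    Module.IsReflexive (X.presheaf.stalk x) ((DCoh.HD K n).presheaf.stalk x) := by
  obtain ⟨A, _, _, ω, δ, q, σ, τ, hω, hδ, hz, h⟩ := exists_pt hK n hlt x
  have hdom : IsDomain (Localization.AtPrime q.asIdeal) := MulEquiv.isDomain (X.presheaf.stalk x) σ.toMulEquiv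
  have hic : IsIntegrallyClosed (Localization.AtPrime q.asIdeal) :=
    IsIntegrallyClosed.of_equiv σ.symm
  have hN : IsNoetherianRing (Localization.AtPrime q.asIdeal) :=
    IsLocalization.isNoetherianRing q.asIdeal.primeCompl _ inferInstance
  have hfin : Module.Finite A (Dual.HD A ω n) := hω.finite_cohomology _
  have h2 := isTorsionFree_localized hω hδ n hz q
  have h3 : Module.IsReflexive (Localization.AtPrime q.asIdeal)
      (LocalizedModule q.asIdeal.primeCompl (Dual.HD A ω n)) := by
    refine S2054.result.2 ⟨⟨fun {a m} ham => ?_⟩,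
      S2Alg.hasSk_two_localized hω hδ n hz q fun r _ => delta_le hδ n hz r⟩
    exact Module.isTorsionFree_iff_smul_eq_zero.1 h2 _ _ ham
  exact Divis.ReflexSheaf.isReflexive_of_semilinear σ τ h

end Groth.Agent.K477.LowestRefl
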