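import Groth.Agent.Dual.H341.HypField
import Groth.Agent.Dual.H364.DualUniq
import Groth.Agent.S3611
import Groth.Agent.Ega1.DualSchBdd
import Groth.Agent.Dual.H317.QFDim
import Groth.Agent.Dual3.K477.NormalGeo
import Groth.Agent.Dual3.K477.LowestRefl

/-!
# The lowest cohomology sheaf of the dualizing complex of a normal variety
-/

set_option autoImplicit false

universe u

open CategoryTheory CategoryTheory.Limits AlgebraicGeometry

attribute [local instance] HasDerivedCategory.standard

namespace Groth.Agent.K477.NormalLow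

open Groth.Agent

variable {k : Type u} [Field k] {X : Scheme.{u}} (p : X ⟶ Spec (CommRingCat.of k))

/-- Fibres over a point of the base have dimension at most that of the total space. -/
theorem fibreDimLE {X Y : Scheme.{u}} (f : X ⟶ Y) {n : ℕ} (h : topologicalKrullDim X = (n : WithBot ℕ∞)) :
    Dual3.FibreDimLE f n := fun s => by
  rw [← h]
  exact (f.fiberι s).isEmbedding.isInducing.topologicalKrullDim_le

variable [Dual3.IsSepFT p] 
    (c : DEt.Compactification p) [DCoh.HasRpush c.fbar] (hc : DCoh.RpushPreservesQCoh c.fbar)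
    (a : DCoh.DQCoh (Spec (CommRingCat.of k)) ⥤ DCoh.DQCoh c.Xbar) (adj : DCoh.RpushQ c.fbar hc ⊣ a)
    [∀ (U V : Scheme.{u}) (j : U ⟶ V) [IsOpenImmersion j], PreservesFiniteLimits (Scheme.Modules.restrictFunctor j)]
    (O : DCoh.DQCoh (Spec (CommRingCat.of k))) (hO : Nonempty (O.obj ≅ DCoh.inD (Spec (CommRingCat.of k)) (Coh.structureModule (Spec (CommRingCat.of k)))))

include adj hO

/-- `p^! O` is dualizing. -/
theorem isDualizing : Dual2.IsDualizingSch X ((Dual3.shriekC c a).obj O) :=
  Dual.H364.DualUniq.isDualizingSch_restrict c.j (Dual.H341.HypField.isDualizingSch k c.Xbar c.fbar hc a adj O hO)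

/-- The cohomology of `p^! O` vanishes below `-n`. -/
theorem isZero_HD {n : ℕ} (hn : topologicalKrullDim X = (n : WithBot ℕ∞)) (i : ℤ) (hi : i < -(n : ℤ)) :
    IsZero (DCoh.HD ((Dual3.shriekC c a).obj O) i) := by
  refine CohqB.LocalQC.isZero_of_stalks fun x => ?_
  by_contra h
  rw [not_subsingleton_iff_nontrivial] at h
  have hsep : Dual3.IsSepFT (𝟙 (Spec (CommRingCat.of k))) := ⟨inferInstance, inferInstance, inferInstance⟩
  have h1 := S3611.result (Spec (CommRingCat.of k)) X (Spec (CommRingCat.of k)) p (𝟙 _) p (Category.comp_id p) c hc a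
    adj O hO x n (Dual.H317.QFDim.localFibreDim_le_of_fibreDimLE p (fibreDimLE p hn) x) i h
  omega

/-- The lowest cohomology sheaf is coherent. -/
theorem isCoh_HD (i : ℤ) : Coh.IsCoh (DCoh.HD ((Dual3.shriekC c a).obj O) i) :=
  Ega1.DualSchBdd.isCohD_of_isDualizingSch (isDualizing p c hc a adj O hO) i

/-- The lowest cohomology sheaf is reflexive. -/
theorem isReflexive_HD (hX : Pi1.IsNormalScheme X) {n : ℕ} (hn : topologicalKrullDim X = (n : WithBot ℕ∞)) (x : X) :
    Module.IsReflexive (X.presheaf.stalk x) ((DCoh.HD ((Dual3.shriekC c a).obj O) (-(n : ℤ))).presheaf.stalk x) := by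
  have := (hX x).1
  have := (hX x).2
  exact LowestRefl.isReflexive_stalk (isDualizing p c hc a adj O hO) _ (isZero_HD p c hc a adj O hO hn) x

end Groth.Agent.K477.NormalLow
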