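import Groth.Agent.Dual3.K477.NormalSm
import Groth.Agent.Dual3.K477.NormalLow
import Groth.Agent.Dual3.K477.ExtCoh
import Groth.Agent.CurvesB.OmegaInv
import Groth.Agent.S1691
import Groth.Agent.SDiv.K475.Ddual
import Groth.Agent.SDiv.K476.HomSh6
import Groth.Agent.Sga2.PnHomAdj

/-!
# The dualizing sheaf of a normal variety is the double dual of the top differentials
-/

set_option autoImplicit false

universe u

open CategoryTheory CategoryTheory.Limits AlgebraicGeometry

attribute [local instance] HasDerivedCategory.standard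

namespace Groth.Agent.K477.NormalDual

open Groth.Agent AlgebraicGeometry.Scheme.Modules

section Dual

variable {X : Scheme.{u}}

/-- The sheaf Hom only depends on the first argument up to isomorphism. -/
noncomputable def sheafHomCongr {M N : X.Modules} (e : M ≅ N) [DCoh.HasSheafHom M] [DCoh.HasSheafHom N] :
    DCoh.sheafHom M ≅ DCoh.sheafHom N :=
  ((DCoh.sheafHomAdj M).ofNatIsoLeft (DCoh.tensorBi.mapIso e)).rightAdjointUniq (DCoh.sheafHomAdj N)

/-- `Hom(M, O)` is the explicit dual. -/
noncomputable def dualIso (M : X.Modules) [DCoh.HasSheafHom M] :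
    (DCoh.sheafHom M).obj (Coh.structureModule X) ≅ RefHull.dual M :=
  (Sga2.PnHomAdj.sheafHomIso M).app _ ≪≫ (K476.HomSh6.cmpIso M _).symm

/-- `Hom(Hom(M, O), O)` is the explicit double dual. -/
noncomputable def ddualIso (M : X.Modules) [DCoh.HasSheafHom M]
    [DCoh.HasSheafHom ((DCoh.sheafHom M).obj (Coh.structureModule X))] :
    (DCoh.sheafHom ((DCoh.sheafHom M).obj (Coh.structureModule X))).obj (Coh.structureModule X) ≅
      RefHull.ddual M :=
  (sheafHomCongr (dualIso M)).app _ ≪≫ dualIso (RefHull.dual M)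

/-- Morphisms with bijective stalk maps over an open restrict to isomorphisms. -/
theorem isIso_restrict {F G : X.Modules} (φ : F ⟶ G) (U : X.Opens)
    (h : ∀ x ∈ U, Function.Bijective (RefHull.stalkMapₗ φ x)) : IsIso ((restrictFunctor U.ι).map φ) := by
  rw [Scheme.Modules.Hom.isIso_iff_isIso_app]
  intro V
  rw [ConcreteCategory.isIso_iff_bijective]
  exact K476.HomSh4.bijective_app_of_stalk φ (U := U.ι ''ᵁ V) fun x hx => h x (by
    obtain ⟨y, -, rfl⟩ := hx
    exact y.2)

end Dual

variable {k : Type u} [Field k] {X : Scheme.{u}} (p : X ⟶ Spec (CommRingCat.of k)) [Dual3.IsSepFT p]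
    (c : DEt.Compactification p) [DCoh.HasRpush c.fbar] (hc : DCoh.RpushPreservesQCoh c.fbar)
    (a : DCoh.DQCoh (Spec (CommRingCat.of k)) ⥤ DCoh.DQCoh c.Xbar) (adj : DCoh.RpushQ c.fbar hc ⊣ a)
    [∀ (U V : Scheme.{u}) (j : U ⟶ V) [IsOpenImmersion j], PreservesFiniteLimits (Scheme.Modules.restrictFunctor j)]
    (O : DCoh.DQCoh (Spec (CommRingCat.of k))) (hO : Nonempty (O.obj ≅ DCoh.inD (Spec (CommRingCat.of k)) (Coh.structureModule (Spec (CommRingCat.of k)))))

include adj hO

/-- The dualizing sheaf of a normal variety over a perfect field is the reflexive hull of the top differentials. -/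
theorem main [PerfectField k] [ConnectedSpace X] (hX : Pi1.IsNormalScheme X) (n : ℕ)
    (hdim : topologicalKrullDim X = (n : WithBot ℕ∞)) (W : X.Modules) (hW : ExtPow.IsExtPow n (Omega.sheaf p) W)
    [DCoh.HasSheafHom W] [DCoh.HasSheafHom ((DCoh.sheafHom W).obj (Coh.structureModule X))] :
    Nonempty (DCoh.HD ((Dual3.shriekC c a).obj O) (-(n : ℤ)) ≅
      (DCoh.sheafHom ((DCoh.sheafHom W).obj (Coh.structureModule X))).obj (Coh.structureModule X)) := by
  have hXN : IsNoetherian X := LoccohB.AdStruct.isNoetherian_of_finiteType p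
  have hXI : IsIntegral X := NormalGeo.isIntegral hX
  have hsm : SmoothOfRelativeDimension n (p.smoothLocus.ι ≫ p) := NormalGeo.smoothOfRelativeDimension p n hdim
  obtain ⟨e⟩ := NormalSm.nonempty_restrict_iso p c hc a adj O hO p.smoothLocus n W hW
  have hcW : Coh.IsCoh W := ExtCoh.isCoh_of_isExtPow (CurvesB.OmegaInv.isCoh_omega p) hW
  have hcF := NormalLow.isCoh_HD p c hc a adj O hO (-(n : ℤ))
  have hrF := NormalLow.isReflexive_HD p c hc a adj O hO hX hdim
  have hdepth := NormalGeo.two_le_depth p hX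
  have hcD : Coh.IsCoh (RefHull.ddual W) := K476.HomSh4.isCoh_ddual hcW
  have hrD := (K476.HomSh4.isReflexive_iff_isReflexiveAt hcD).1 (K475.Ddual.isReflexive_ddual hcW)
  have h1 := (S1691.result X p.smoothLocus hdepth).1 _ hcF hrF
  have h2 := (S1691.result X p.smoothLocus hdepth).1 _ hcD hrD
  have h3 : IsIso ((restrictFunctor p.smoothLocus.ι).map (RefHull.bidualMap W)) := by
    refine isIso_restrict _ _ fun x hx => ?_
    rw [K476.HomSh4.bijective_stalkMapₗ_bidualMap_iff_of_isCoh hcW]
    exact (Divis.ReflexSheaf.isReflexive_restrict_iff p.smoothLocus.ι W ⟨x, hx⟩).1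
      (Divis.ReflexSheaf.isReflexive_stalk_of_iso e ⟨x, hx⟩
        ((Divis.ReflexSheaf.isReflexive_restrict_iff p.smoothLocus.ι _ ⟨x, hx⟩).2 (hrF x)))
  exact ⟨asIso ((restrictAdjunction p.smoothLocus.ι).unit.app _) ≪≫
    (pushforward p.smoothLocus.ι).mapIso (e ≪≫
      asIso ((restrictFunctor p.smoothLocus.ι).map (RefHull.bidualMap W))) ≪≫
    (asIso ((restrictAdjunction p.smoothLocus.ι).unit.app _)).symm ≪≫ (ddualIso W).symm⟩

end Groth.Agent.K477.NormalDual
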