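import Groth.Agent.Dual3.K477.UnivRestr
import Groth.Agent.Dual.H352.EndoLocal
import Groth.Agent.Dual.H359.RHUniv
import Groth.Agent.PerfC.LTXRestr
import Groth.Agent.PerfC.ProjAbs291
import Groth.Agent.Ega2.QCohLocal

/-!
# Sheafy Grothendieck duality

`f : X ⟶ Y` proper, `Y` Noetherian, `K ∈ D^+_QCoh(Y)`, `τ : Rf_* L ⟶ K` universal, `E ∈ D_QCoh(X)`:
`Rf_* RHom(E, L) ≅ RHom(Rf_* E, K)` (`nonempty_iso`).  The isomorphism is `dualMap`, adjoint to
`Rf_* E ⊗ Rf_* RHom(E, L) ⟶ Rf_* (E ⊗ Lf^* Rf_* RHom(E, L)) ⟶ Rf_* L ⟶ K`.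
-/

set_option autoImplicit false

universe v₁ v₂ v₃ v₄ u₁ u₂ u₃ u₄ u

open CategoryTheory CategoryTheory.Limits

namespace Groth.Agent.K477.SheafDual

section Abstract

variable {D : Type u₁} [Category.{v₁} D] {E : Type u₂} [Category.{v₂} E]
  {A : D ⥤ E} {A' : E ⥤ D} (adjA : A ⊣ A') {B B' : D ⥤ D} (adjB : B ⊣ B')
  {R : E ⥤ D} (θ : B ⟶ A ⋙ R) {N : E} {G : D} (τ : R.obj N ⟶ G)

/-- The map `A' N ⟶ B' G` adjoint to `B A' N ⟶ R A A' N ⟶ R N ⟶ G`. -/
def dualMap : A'.obj N ⟶ B'.obj G :=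
  adjB.homEquiv _ _ (θ.app (A'.obj N) ≫ R.map (adjA.counit.app N) ≫ τ)

/-- Composition with `dualMap` is `φ ↦ θ ≫ R φ ≫ τ` up to the adjunctions. -/
theorem comp_dualMap {M : D} (φ : A.obj M ⟶ N) :
    adjA.homEquiv _ _ φ ≫ dualMap adjA adjB θ τ = adjB.homEquiv _ _ (θ.app M ≫ R.map φ ≫ τ) := by
  unfold dualMap
  rw [← Adjunction.homEquiv_naturality_left]
  congr 1
  have h1 := θ.naturality (adjA.homEquiv _ _ φ)
  dsimp only [Functor.comp_map] at h1
  rw [reassoc_of% h1, ← R.map_comp_assoc]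
  congr 3
  simp [Adjunction.homEquiv_unit]

theorem bijective_comp_dualMap (M : D)
    (h : Function.Bijective (fun φ : A.obj M ⟶ N => θ.app M ≫ R.map φ ≫ τ)) :
    Function.Bijective (fun g : M ⟶ A'.obj N => g ≫ dualMap adjA adjB θ τ) := by
  have h1 : (fun g : M ⟶ A'.obj N => g ≫ dualMap adjA adjB θ τ) =
      (adjB.homEquiv _ _) ∘ (fun φ : A.obj M ⟶ N => θ.app M ≫ R.map φ ≫ τ) ∘ (adjA.homEquiv _ _).symm := by
    funext g
    obtain ⟨φ, rfl⟩ := (adjA.homEquiv _ _).surjective g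
    simp only [Function.comp_apply, Equiv.symm_apply_apply]
    exact comp_dualMap adjA adjB θ τ φ
  rw [h1]
  exact (Equiv.bijective _).comp (h.comp (Equiv.bijective _))

variable {D₁ : Type u₃} [Category.{v₃} D₁] {E₁ : Type u₄} [Category.{v₄} E₁]
  {v : D ⥤ D₁} {v' : E ⥤ E₁} {R₁ : E₁ ⥤ D₁} (β : R ⋙ v ≅ v' ⋙ R₁)

/-- Reduction of the bijectivity of `φ ↦ t ≫ R φ ≫ τ` to the localized statement. -/
theorem bijective_of_local {P : E} {Q : D} (t : Q ⟶ R.obj P)
    (h1 : Function.Bijective (fun g : Q ⟶ G => v.map g))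
    (h2 : Function.Bijective (fun g : P ⟶ N => v'.map g)) (h3 : IsIso (v.map t))
    (h4 : Function.Bijective (fun ψ : v'.obj P ⟶ v'.obj N => R₁.map ψ ≫ β.inv.app N ≫ v.map τ)) :
    Function.Bijective (fun φ : P ⟶ N => t ≫ R.map φ ≫ τ) := by
  refine (Function.Bijective.of_comp_iff' h1 _).1 ?_
  have e : (fun g : Q ⟶ G => v.map g) ∘ (fun φ : P ⟶ N => t ≫ R.map φ ≫ τ) =
      (fun x : R₁.obj (v'.obj P) ⟶ v.obj G => v.map t ≫ β.hom.app P ≫ x) ∘
        (fun ψ : v'.obj P ⟶ v'.obj N => R₁.map ψ ≫ β.inv.app N ≫ v.map τ) ∘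
        (fun g : P ⟶ N => v'.map g) := by
    funext φ
    have n1 := β.inv.naturality φ
    dsimp only [Functor.comp_map] at n1
    simp only [Function.comp_apply, Functor.map_comp]
    rw [reassoc_of% n1]
    congr 1
    exact (Iso.hom_inv_id_app_assoc β P _).symm
  rw [e]
  have h5 : Function.Bijective (fun x : R₁.obj (v'.obj P) ⟶ v.obj G => v.map t ≫ β.hom.app P ≫ x) := by
    have : (fun x : R₁.obj (v'.obj P) ⟶ v.obj G => v.map t ≫ β.hom.app P ≫ x) =
        (((asIso (v.map t)) ≪≫ β.app P).homFromEquiv (Z := v.obj G)).symm := by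
      funext x
      simp
    rw [this]
    exact Equiv.bijective _
  exact h5.comp (h4.comp h2)

end Abstract

open AlgebraicGeometry

attribute [local instance] HasDerivedCategory.standard

open DCoh Groth.Agent.PerfC.DTens Groth.Agent.PerfC.RHomD Groth.Agent.PerfC.LpullTens
  Groth.Agent.PerfC.ExtZeroD Groth.Agent.Ega1.ADualUniv Groth.Agent.Dual.H352.EndoLocal
  Groth.Agent.LoccohB

variable {X Y U V : Scheme.{u}}

/-- The adjunction `K ⊗ᴸ - ⊣ RHom(K, -)`. -/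
noncomputable def rhAdj' (K : D X) : (LTX X).obj K ⊣ RH K :=
  (rhAdj K).ofNatIsoLeft ((symmIso X).app K)

section Supp

variable (j : U ⟶ X) [IsOpenImmersion j]

/-- `A ⊗ᴸ M` is an extension by zero if `M` is. -/
theorem isIso_counit_tens (A : D X) (M : D U) :
    IsIso ((PerfC.ExtZeroD.adjunction j).counit.app (((LTX X).obj A).obj ((shriekD j).obj M))) := by
  have h1 := TensShriek.isIso_counit_tensor j (DerivedCategory.Q.objPreimage A) M
  let e : (TensShriek.ltR (DerivedCategory.Q.objPreimage A)).obj ((shriekD j).obj M) ≅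
      ((LTX X).obj A).obj ((shriekD j).obj M) :=
    ((LTX X).flip.mapIso (DerivedCategory.Q.objObjPreimageIso A)).app _ ≪≫ ((symmIso X).app A).app _
  exact (NatTrans.isIso_app_iff_of_iso _ e).1 h1

theorem isIso_counit_tens_of_iso (A : D X) {M : D U} {P : D X} (e : (shriekD j).obj M ≅ P) :
    IsIso ((PerfC.ExtZeroD.adjunction j).counit.app (((LTX X).obj A).obj P)) :=
  (NatTrans.isIso_app_iff_of_iso _ (((LTX X).obj A).mapIso e)).1 (isIso_counit_tens j A M)

end Supp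

section Square

variable {f : X ⟶ Y} {f' : U ⟶ V} {j' : U ⟶ X} {j : V ⟶ Y} [IsOpenImmersion j'] [IsOpenImmersion j]
  (hp : IsPullback j' f' f j) [HasRpush f] [HasRpush f'] [HasLpull f] [HasLpull f']

/-- `Lf^* j_! ≅ j'_! Lf'^*`. -/
noncomputable def lpullShriek (β : Rpush f ⋙ restrictD j ≅ restrictD j' ⋙ Rpush f') :
    Lpull f' ⋙ shriekD j' ≅ shriekD j ⋙ Lpull f :=
  (((Dcoh.DerPull.lpullAdj f').comp (PerfC.ExtZeroD.adjunction j')).ofNatIsoRight β.symm).leftAdjointUniq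
    ((PerfC.ExtZeroD.adjunction j).comp (Dcoh.DerPull.lpullAdj f))

include hp in
/-- The projection map is an isomorphism over `V` on `j_! j^* M`, `M ∈ D_QCoh`. -/
theorem isIso_restrictD_theta [QuasiCompact f] [QuasiSeparated f] {E : D X} (hE : IsQCohD E) {M : D Y}
    (hM : IsQCohD M) : IsIso ((restrictD j).map ((theta f E).app ((shriekD j).obj ((restrictD j).obj M)))) := by
  have hRT : PerfC.ProjAbs291.ResTens.{u} := fun j _ A B => ⟨PerfC.LTXRestr.restrTensObj j A B⟩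
  have h1 : PerfC.IsoLocus.isoLocus (PerfC.ProjAbs291.resτ j (theta f E)) M := fun n => by
    have h2 : IsIso ((theta f E).app (M⟦n⟧)) :=
      S1118.isIso_theta_app f E hE _ (PerfC.ProjAbs291.isQCohD_shift hM n)
    exact inferInstanceAs (IsIso ((restrictD j).map ((theta f E).app (M⟦n⟧))))
  exact PerfC.IsoLocus.isIso_app _ ((PerfC.ProjAbs291.isoLocus_iff hRT hp (theta f E) M).1 h1)

include hp in
/-- Duality over `V` gives the bijectivity of `φ ↦ θ ≫ Rf_* φ ≫ τ` for the objects `j_! j^* M`. -/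
theorem bijective_square (β : Rpush f ⋙ restrictD j ≅ restrictD j' ⋙ Rpush f')
    [QuasiCompact f] [QuasiSeparated f] {E : D X} (hE : IsQCohD E)
    {N : D X} {G : D Y} (τ : (Rpush f).obj N ⟶ G)
    (hloc : ∀ P : D U, IsQCohD P → Function.Bijective (fun ψ : P ⟶ (restrictD j').obj N =>
      (Rpush f').map ψ ≫ β.inv.app N ≫ (restrictD j).map τ)) {M : D Y} (hM : IsQCohD M) :
    Function.Bijective (fun φ : (Lpull f ⋙ (LTX X).obj E).obj
      ((shriekD j).obj ((restrictD j).obj M)) ⟶ N => (theta f E).app _ ≫ (Rpush f).map φ ≫ τ) := by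
  refine bijective_of_local τ β ((theta f E).app _) ?_ ?_ (isIso_restrictD_theta hp hE hM) (hloc _ ?_)
  · exact Bij.of_counit (PerfC.ExtZeroD.adjunction j) _ _ (isIso_counit_tens j _ _)
  · exact Bij.of_counit (PerfC.ExtZeroD.adjunction j') _ _
      (isIso_counit_tens_of_iso j' E ((lpullShriek β).app ((restrictD j).obj M)))
  · have h1 : IsQCohD ((restrictD j').obj E) := PerfA.QCohD.isQCohD_restrictD j' hE
    have h2 : IsQCohD ((restrictD j).obj ((shriekD j).obj ((restrictD j).obj M))) :=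
      PerfC.ProjAbs291.isQCohD_of_iso (PerfC.ExtZeroD.unitIso j _) (PerfA.QCohD.isQCohD_restrictD j hM)
    have h3 : IsQCohD ((restrictD j').obj ((Lpull f).obj ((shriekD j).obj ((restrictD j).obj M)))) :=
      PerfC.ProjAbs291.isQCohD_of_iso ((PerfC.ProjAbs291.nonempty_Lpull hp).some.symm.app _)
        (S1054.result f' _ h2)
    exact PerfC.ProjAbs291.isQCohD_of_iso (PerfC.LTXRestr.restrTensObj j' E _).symm
      (PerfC.ProjAbs291.isQCohD_LTX h1 h3)

end Square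

variable (f : X ⟶ Y) [HasRpush f] [HasLpull f] [QuasiCompact f] [QuasiSeparated f]

/-- The map `Rf_* RHom(E, N) ⟶ RHom(Rf_* E, G)` induced by `τ : Rf_* N ⟶ G`. -/
noncomputable def dualMapD (E : D X) {N : D X} {G : D Y} (τ : (Rpush f).obj N ⟶ G) :
    (Rpush f).obj ((RH E).obj N) ⟶ (RH ((Rpush f).obj E)).obj G :=
  dualMap ((Dcoh.DerPull.lpullAdj f).comp (rhAdj' E)) (rhAdj' ((Rpush f).obj E)) (theta f E) τ

/-- `dualMapD` is an isomorphism if duality holds over all opens of the base. -/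
theorem isIso_dualMapD {E : D X} (hE : IsQCohD E) {N : D X} {G : D Y} (τ : (Rpush f).obj N ⟶ G)
    (hloc : ∀ V : Y.Opens, ∃ (_ : HasRpush (f ∣_ V))
      (β : Rpush f ⋙ restrictD V.ι ≅ restrictD (f ⁻¹ᵁ V).ι ⋙ Rpush (f ∣_ V)),
      ∀ P : D (f ⁻¹ᵁ V : X.Opens), IsQCohD P → Function.Bijective (fun ψ : P ⟶ (restrictD (f ⁻¹ᵁ V).ι).obj N =>
        (Rpush (f ∣_ V)).map ψ ≫ β.inv.app N ≫ (restrictD V.ι).map τ)) :
    IsIso (dualMapD f E τ) := by
  refine Detect531.isIso_of_forall_bijective_shriek (fun V : Y.Opens => (V : Scheme.{u})) (fun V => V.ι)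
    (fun x V hx => ⟨V, by rwa [Scheme.Opens.opensRange_ι], by rw [Scheme.Opens.opensRange_ι]⟩) _ fun V m => ?_
  obtain ⟨hR, β, hβ⟩ := hloc V
  have hL : HasLpull (f ∣_ V) := S0959.result _
  have hp : IsPullback (f ⁻¹ᵁ V).ι (f ∣_ V) f V.ι := (isPullback_morphismRestrict f V).flip
  have hM : IsQCohD ((DerivedCategory.singleFunctor Y.Modules m).obj (Coh.structureModule Y)) :=
    PerfA.QCohD.isQCohD_single _ (Ega2.QCohLocal.isQCoh_structureModule Y) m
  refine Detect531.bijective_comp_of_iso ((shriekD V.ι).mapIso (TildeEta.restrictSingle V.ι m)) _ ?_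
  exact bijective_comp_dualMap ((Dcoh.DerPull.lpullAdj f).comp (rhAdj' E)) (rhAdj' ((Rpush f).obj E))
    (theta f E) τ _ (bijective_square hp β hE τ hβ hM)

omit [QuasiCompact f] [QuasiSeparated f] in
/-- **Sheafy Grothendieck duality** for a proper morphism to a Noetherian scheme: for `E ∈ D_QCoh(X)`,
`K ∈ D^+_QCoh(Y)` and `L` universal for `(f, K)`, the map `Rf_* RHom(E, L) ⟶ RHom(Rf_* E, K)` is an isomorphism. -/
theorem isIso_dualMapD_of_isUniv [IsNoetherian Y] [IsProper f] {E : D X} (hE : IsQCohD E) {K : D Y}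
    (hK : IsQCohD K) (c : ℤ) (hKc : K.IsGE c) {L : D X} {τ : (Rpush f).obj L ⟶ K} (h : IsUniv f K L τ) :
    IsIso (dualMapD f E τ) := by
  refine isIso_dualMapD f hE τ fun V => ?_
  have hR : HasRpush (f ∣_ V) := Dcoh.DerSch.hasRpush _
  have hp : IsPullback (f ⁻¹ᵁ V).ι (f ∣_ V) f V.ι := (isPullback_morphismRestrict f V).flip
  obtain ⟨β⟩ := Dcoh.DerSch.exists_rpushRestrictIso f (f ∣_ V) (f ⁻¹ᵁ V).ι V.ι hp
  exact ⟨hR, β, (UnivRestr.isUniv_restrict f hp β hK c hKc h).bij⟩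

end Groth.Agent.K477.SheafDual
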