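import Groth.Agent.Dual3.K477.NormGlue
import Groth.Agent.Dual3.K477.SheafDual
import Groth.Agent.Dual.H329.Van

/-!
# Universality of the trace over an arbitrary base

`f : X ⟶ S` proper, flat, locally of finite presentation, `S` any scheme, `K` a relative dualizing complex.  Then
`K` represents `N ↦ Hom(Rf_* N, O_S)` on `D_QCoh(O_X)` (`exists_isUniv`).  Hence `f^! O_S ≅ K` for every right
adjoint `f^!` of `Rf_*` on `D_QCoh` (`nonempty_shriek_iso`).
-/

set_option autoImplicit false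

universe u

open CategoryTheory CategoryTheory.Limits AlgebraicGeometry

attribute [local instance] HasDerivedCategory.standard

namespace Groth.Agent.K477.RelUniv

open Groth.Agent.PerfC.DTens Groth.Agent.PerfC.RHomD Groth.Agent.PerfC.LpullTens
  Groth.Agent.PerfC.ExtZeroD Groth.Agent.Ega1.ADualUniv Groth.Agent.PerfA.Restrict
  Groth.Agent.LoccohB Groth.Agent.K477.SheafDual Groth.Agent.K477.NormSch Groth.Agent.Dual.H307.MonSquare
  Groth.Agent.Dual.H336.GlueTot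

section Basis

variable {X Y : Scheme.{u}} (f : X ⟶ Y) [DCoh.HasRpush f] [DCoh.HasLpull f] [QuasiCompact f] [QuasiSeparated f]

/-- `dualMapD` is an isomorphism if duality holds over a basis of opens of the base. -/
theorem isIso_dualMapD_basis (B : Y.Opens → Prop)
    (hB : ∀ (x : Y) (V : Y.Opens), x ∈ V → ∃ W, B W ∧ x ∈ W ∧ W ≤ V)
    {E : DCoh.D X} (hE : DCoh.IsQCohD E) {N : DCoh.D X} {G : DCoh.D Y} (τ : (DCoh.Rpush f).obj N ⟶ G)
    (hloc : ∀ V : Y.Opens, B V → ∃ (_ : DCoh.HasRpush (f ∣_ V))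
      (β : DCoh.Rpush f ⋙ restrictD V.ι ≅ restrictD (f ⁻¹ᵁ V).ι ⋙ DCoh.Rpush (f ∣_ V)),
      ∀ P : DCoh.D (f ⁻¹ᵁ V : X.Opens), DCoh.IsQCohD P → Function.Bijective
        (fun ψ : P ⟶ (restrictD (f ⁻¹ᵁ V).ι).obj N =>
        (DCoh.Rpush (f ∣_ V)).map ψ ≫ β.inv.app N ≫ (restrictD V.ι).map τ)) :
    IsIso (dualMapD f E τ) := by
  refine Detect531.isIso_of_forall_bijective_shriek (fun V : {V : Y.Opens // B V} => (V.1 : Scheme.{u}))
    (fun V => V.1.ι) (fun x V hx => ?_) _ fun V m => ?_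
  · obtain ⟨W, hW, hxW, hWV⟩ := hB x V hx
    exact ⟨⟨W, hW⟩, by rwa [Scheme.Opens.opensRange_ι], by rwa [Scheme.Opens.opensRange_ι]⟩
  obtain ⟨hR, β, hβ⟩ := hloc V.1 V.2
  have hL : DCoh.HasLpull (f ∣_ V.1) := S0959.result _
  have hp : IsPullback (f ⁻¹ᵁ V.1).ι (f ∣_ V.1) f V.1.ι := (isPullback_morphismRestrict f V.1).flip
  have hM : DCoh.IsQCohD ((DerivedCategory.singleFunctor Y.Modules m).obj (Coh.structureModule Y)) :=
    PerfA.QCohD.isQCohD_single _ (Ega2.QCohLocal.isQCoh_structureModule Y) m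
  refine Detect531.bijective_comp_of_iso ((shriekD V.1.ι).mapIso (TildeEta.restrictSingle V.1.ι m)) _ ?_
  exact bijective_comp_dualMap ((Dcoh.DerPull.lpullAdj f).comp (rhAdj' E)) (rhAdj' ((DCoh.Rpush f).obj E))
    (theta f E) τ _ (bijective_square hp β hE τ hβ hM)

/-- Bijectivity for `Hom`s into `N` from duality. -/
theorem bijective_of_isIso_dualMapD {E : DCoh.D X} (hE : DCoh.IsQCohD E) {N : DCoh.D X} {G : DCoh.D Y}
    (τ : (DCoh.Rpush f).obj N ⟶ G) (h : IsIso (dualMapD f E τ)) {M : DCoh.D Y} (hM : DCoh.IsQCohD M) :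
    Function.Bijective (fun φ : ((LTX X).obj E).obj ((DCoh.Lpull f).obj M) ⟶ N => (DCoh.Rpush f).map φ ≫ τ) := by
  have hθ : IsIso ((theta f E).app M) := S1118.isIso_theta_app f E hE M hM
  let adjA := (Dcoh.DerPull.lpullAdj f).comp (rhAdj' E)
  let adjB := rhAdj' ((DCoh.Rpush f).obj E)
  have h1 : Function.Bijective (fun g : M ⟶ (DCoh.Rpush f).obj ((RH E).obj N) => g ≫ dualMapD f E τ) :=
    ((asIso (dualMapD f E τ)).homToEquiv (Z := M)).bijective
  have h2 : Function.Bijective (fun φ : ((LTX X).obj E).obj ((DCoh.Lpull f).obj M) ⟶ N =>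
      adjB.homEquiv _ _ ((theta f E).app M ≫ (DCoh.Rpush f).map φ ≫ τ)) := by
    have e : (fun φ : ((LTX X).obj E).obj ((DCoh.Lpull f).obj M) ⟶ N =>
      adjB.homEquiv _ _ ((theta f E).app M ≫ (DCoh.Rpush f).map φ ≫ τ)) =
      (fun g : M ⟶ (DCoh.Rpush f).obj ((RH E).obj N) => g ≫ dualMapD f E τ) ∘ (adjA.homEquiv M N) := by
      funext φ
      exact (comp_dualMap adjA adjB (theta f E) τ φ).symm
    rw [e]
    exact h1.comp (Equiv.bijective _)
  have h3 : Function.Bijective (fun φ : ((LTX X).obj E).obj ((DCoh.Lpull f).obj M) ⟶ N =>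
      (theta f E).app M ≫ (DCoh.Rpush f).map φ ≫ τ) :=
    (Function.Bijective.of_comp_iff' (Equiv.bijective (adjB.homEquiv _ _)) _).1 h2
  refine (Function.Bijective.of_comp_iff' (f := fun g : (DCoh.Rpush f).obj (((LTX X).obj E).obj
    ((DCoh.Lpull f).obj M)) ⟶ G => (theta f E).app M ≫ g)
    ((asIso ((theta f E).app M)).symm.homFromEquiv (Z := G)).bijective _).1 h3

end Basis

/-- `E ⊗ᴸ O_X ≅ E`. -/
noncomputable def tensUnit {X : Scheme.{u}} (E : DCoh.D X) : ((LTX X).obj E).obj (OO X) ≅ E :=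
  (((symmIso X).app E).app (OO X)).symm ≪≫ Groth.Agent.Dual.H329.Van.isoFS E

section Local

attribute [local instance] Groth.Agent.PerfB.BCSch.hasLpull Groth.Agent.Dcoh.DerSch.hasRpush

variable {X S : Scheme.{u}} (f : X ⟶ S)

/-- The base change isomorphism over an open. -/
noncomputable def betaIso {U V : Scheme.{u}} {j : U ⟶ X} {i : V ⟶ S} {f' : U ⟶ V} [IsOpenImmersion i]
    [IsOpenImmersion j] (sq : IsPullback j f' f i) :
    DCoh.Rpush f ⋙ DCoh.Lpull i ≅ DCoh.Lpull j ⋙ DCoh.Rpush f' :=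
  haveI : ∀ E, IsIso ((beta sq.w).app E) := fun E =>
    Dual.H307.BcGen.isIso_beta_of_bc sq.w E (PerfB.BCGeom.bc_openD sq E)
  haveI : IsIso (beta sq.w) := NatIso.isIso_of_isIso_app _
  asIso (beta sq.w)

lemma betaIso_hom {U V : Scheme.{u}} {j : U ⟶ X} {i : V ⟶ S} {f' : U ⟶ V} [IsOpenImmersion i]
    [IsOpenImmersion j] (sq : IsPullback j f' f i) : (betaIso f sq).hom = beta sq.w := rfl

/-- The same for the restriction functors. -/
noncomputable def betaRes {U V : Scheme.{u}} {j : U ⟶ X} {i : V ⟶ S} {f' : U ⟶ V} [IsOpenImmersion i]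
    [IsOpenImmersion j] (sq : IsPullback j f' f i) :
    DCoh.Rpush f ⋙ restrictD i ≅ restrictD j ⋙ DCoh.Rpush f' :=
  Functor.isoWhiskerLeft (DCoh.Rpush f) (PerfC.LpullRestrict.restrictIsoLpull i) ≪≫ betaIso f sq ≪≫
    Functor.isoWhiskerRight (PerfC.LpullRestrict.restrictIsoLpull j).symm (DCoh.Rpush f')

/-- Universality in terms of restrictions. -/
theorem isUniv_res {U V : Scheme.{u}} {j : U ⟶ X} {i : V ⟶ S} {f' : U ⟶ V} [IsOpenImmersion i]
    [IsOpenImmersion j] (sq : IsPullback j f' f i) {K : DCoh.D X} {A : DCoh.D S}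
    (τ : (DCoh.Rpush f).obj K ⟶ A)
    (h : ∀ τ' : (DCoh.Rpush f').obj ((DCoh.Lpull j).obj K) ⟶ (DCoh.Lpull i).obj A,
      (beta sq.w).app K ≫ τ' = (DCoh.Lpull i).map τ →
        IsUniv f' ((DCoh.Lpull i).obj A) ((DCoh.Lpull j).obj K) τ') :
    IsUniv f' ((restrictD i).obj A) ((restrictD j).obj K)
      ((betaRes f sq).inv.app K ≫ (restrictD i).map τ) := by
  have h1 := h ((betaIso f sq).inv.app K ≫ (DCoh.Lpull i).map τ) (by
    rw [← betaIso_hom]
    exact Iso.hom_inv_id_app_assoc (betaIso f sq) K _)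
  have hq : DCoh.IsQCohD ((restrictD j).obj K) :=
    PerfA.QCohD.isQCohD_of_iso ((PerfC.LpullRestrict.restrictIsoLpull j).symm.app K) h1.qcoh
  have h2 := h1.of_iso ((PerfC.LpullRestrict.restrictIsoLpull j).symm.app K)
    ((PerfC.LpullRestrict.restrictIsoLpull i).symm.app A) hq
  convert h2 using 1
  have h3 := (PerfC.LpullRestrict.restrictIsoLpull i).inv.naturality τ
  simp only [betaRes, Iso.trans_inv, NatTrans.comp_app, Functor.isoWhiskerRight_inv, Functor.whiskerRight_app,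
    Functor.isoWhiskerLeft_inv, Functor.whiskerLeft_app, Category.assoc, Iso.symm_inv]
  rw [← h3]
  rfl

variable [IsProper f] [Flat f] [LocallyOfFinitePresentation f]

/-- **The relative dualizing complex represents `N ↦ Hom(Rf_* N, O_S)`** on `D_QCoh(O_X)`, over an arbitrary base. -/
theorem exists_isUniv {K : DCoh.D X} (hK : Dual3.IsRelDualizing f K) {A : DCoh.D S} (e : OO S ≅ A) :
    ∃ τ : (DCoh.Rpush f).obj K ⟶ A, IsUniv f A K τ ∧
      ∀ {S' X' : Scheme.{u}} (i : S' ⟶ S) [IsOpenImmersion i] [IsAffine S']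
      (j : X' ⟶ X) (f' : X' ⟶ S') (sq : IsPullback j f' f i)
      (τ' : (DCoh.Rpush f').obj ((DCoh.Lpull j).obj K) ⟶ (DCoh.Lpull i).obj A),
      (beta sq.w).app K ≫ τ' = (DCoh.Lpull i).map τ →
        IsUniv f' ((DCoh.Lpull i).obj A) ((DCoh.Lpull j).obj K) τ' := by
  obtain ⟨τ, hτ⟩ := NormGlue.exists_univ f hK e
  refine ⟨τ, ⟨PerfA.PCohQCoh.isQCohD_of_isPseudoCoherentD hK.choose_spec.1, fun N hN => ?_⟩, hτ⟩
  have h1 : IsIso (dualMapD f N τ) := by
    refine isIso_dualMapD_basis f (fun V => IsAffineOpen V) (fun x V hx => ?_) hN τ fun V hV => ?_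
    · obtain ⟨W, hW, hxW, hWV⟩ := TopologicalSpace.Opens.isBasis_iff_nbhd.1 S.isBasis_affineOpens hx
      exact ⟨W, hW, hxW, hWV⟩
    · have : IsAffine V.toScheme := hV
      exact ⟨inferInstance, betaRes f (isPullback_morphismRestrict f V).flip,
        (isUniv_res f (isPullback_morphismRestrict f V).flip τ
          (hτ V.ι (f ⁻¹ᵁ V).ι (f ∣_ V) (isPullback_morphismRestrict f V).flip)).bij⟩
  have h2 := bijective_of_isIso_dualMapD f hN τ h1 (NormLoc.qcoh_OO S)
  obtain ⟨i⟩ := Groth.Agent.Dual.H339.Core.nonempty_lpull_unit f (K := OO S) ⟨Iso.refl _⟩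
  let e : ((LTX X).obj N).obj ((DCoh.Lpull f).obj (OO S)) ≅ N :=
    ((LTX X).obj N).mapIso i ≪≫ tensUnit N
  have h3 : Function.Bijective (fun x : (DCoh.Rpush f).obj N ⟶ A => (DCoh.Rpush f).map e.hom ≫ x) :=
    (((DCoh.Rpush f).mapIso e).symm.homFromEquiv (Z := A)).bijective
  have h4 : Function.Bijective (fun φ : N ⟶ K => e.hom ≫ φ) := (e.symm.homFromEquiv (Z := K)).bijective
  refine (Function.Bijective.of_comp_iff' h3 _).1 ?_
  have h5 : (fun x : (DCoh.Rpush f).obj N ⟶ A => (DCoh.Rpush f).map e.hom ≫ x) ∘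
      (fun g : N ⟶ K => (DCoh.Rpush f).map g ≫ τ) =
      (fun φ : ((LTX X).obj N).obj ((DCoh.Lpull f).obj (OO S)) ⟶ K => (DCoh.Rpush f).map φ ≫ τ) ∘
        (fun φ : N ⟶ K => e.hom ≫ φ) := by
    funext φ
    simp only [Function.comp_apply, Functor.map_comp, Category.assoc]
  rw [h5]
  exact h2.comp h4

/-- **`f^! O_S` is the relative dualizing complex**, over an arbitrary base. -/
theorem nonempty_shriek_iso {h : ∀ K : DCoh.D X, DCoh.IsQCohD K → DCoh.IsQCohD ((DCoh.Rpush f).obj K)}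
    {a : DCoh.DQCoh S ⥤ DCoh.DQCoh X}
    (adj : (ObjectProperty.lift DCoh.IsQCohD (ObjectProperty.ι DCoh.IsQCohD ⋙ DCoh.Rpush f)
      (fun K => h K.obj K.property)) ⊣ a) (W : DCoh.DQCoh S) (hW : Nonempty (OO S ≅ W.obj))
    {K : DCoh.D X} (hK : Dual3.IsRelDualizing f K) : Nonempty ((a.obj W).obj ≅ K) := by
  obtain ⟨e⟩ := hW
  obtain ⟨τ, hτ, -⟩ := exists_isUniv f hK e
  exact Univ.unique ⟨_, isUniv_of_adj adj W⟩ ⟨τ, hτ⟩

/-- The same for the chosen right adjoint. -/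
theorem nonempty_dualizingCx_iso (h : DCoh.RpushPreservesQCoh f) [DCoh.HasShriek f h] (OS : DCoh.DQCoh S)
    (hOS : Nonempty (OS.obj ≅ DCoh.inD S (Coh.structureModule S))) {K : DCoh.D X}
    (hK : Dual3.IsRelDualizing f K) : Nonempty (DCoh.dualizingCx f h OS ≅ K) :=
  nonempty_shriek_iso f (h := h) (DCoh.shriekAdj f h) OS ⟨hOS.some.symm⟩ hK

end Local

end Groth.Agent.K477.RelUniv
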