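import Groth.Agent.KSix.K238.StalkD
import Groth.Agent.PerfC.TildeStalk
import Groth.Agent.Dcoh.StalkRes
import Groth.Agent.Dcoh.MapDer
import Groth.Agent.Dcoh.FlatTor
import Groth.Agent.LoccohB.FlatLBC
import Groth.Prelude.Def_DCoh3

/-!
# Stalks of restrictions and of `M~`, on derived categories

* `restrictIso j p : stalkF (j p) ≅ restrictFunctor j ⋙ stalkF p ⋙ restrictScalars`.
* `tildeIso p : extendScalars (R → O_p) ≅ tilde ⋙ stalkF p`.
* `stalkDRestrict`, `stalkDTilde`: the same on derived categories.
-/

set_option autoImplicit false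
universe u

open CategoryTheory CategoryTheory.Limits AlgebraicGeometry Opposite TopologicalSpace
open scoped TensorProduct ChangeOfRings
attribute [local instance] HasDerivedCategory.standard

namespace Groth.Agent.K477.StalkNat

open Groth.Agent Groth.Agent.Dcoh.Stalk Groth.Agent.PerfC.TildeStalk Groth.Agent.LoccohB.FlatLBC

section Restrict

variable {X Y : Scheme.{u}} (f : Y ⟶ X) [IsOpenImmersion f] (y : Y)

/-- The stalk functor of the restriction. -/
noncomputable abbrev resStalk : X.Modules ⥤ ModuleCat.{u} (X.presheaf.stalk (f y)) :=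
  (Scheme.Modules.restrictFunctor f ⋙ stalkF y) ⋙ ModuleCat.restrictScalars.{u} (f.stalkMap y).hom

/-- The stalk of the restriction, componentwise. -/
noncomputable def restrictHom (M : X.Modules) : (resStalk f y).obj M ⟶ (stalkF (f y)).obj M :=
  ModuleCat.ofHom (R := X.presheaf.stalk (f y)) (X := ↑((resStalk f y).obj M))
    (Y := ↑((stalkF (f y)).obj M))
    { toFun := fun m => Dcoh.StalkRes.addIso f M y m
      map_add' := fun a b => map_add (Dcoh.StalkRes.addIso f M y) a b
      map_smul' := fun r m => Dcoh.StalkRes.addIso_smul f M y r m }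

theorem restrictHom_germ (M : X.Modules) (U : Y.Opens) (hU : y ∈ U) (s : Γ(M.restrict f, U)) :
    (restrictHom f y M).hom ((M.restrict f).presheaf.germ U y hU s) =
      M.presheaf.germ (f ''ᵁ U) (f y) ⟨y, hU, rfl⟩ s :=
  Dcoh.StalkRes.addIso_germ f M y U hU s

instance isIso_restrictHom (M : X.Modules) : IsIso (restrictHom f y M) := by
  rw [ConcreteCategory.isIso_iff_bijective]
  exact (Dcoh.StalkRes.addIso f M y).bijective

/-- The stalk of the restriction. -/
noncomputable def restrictIso : resStalk f y ≅ stalkF (f y) :=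
  NatIso.ofComponents (fun M => asIso (restrictHom f y M)) (by
    intro M N φ
    ext m
    obtain ⟨U, hU, s, rfl⟩ := (M.restrict f).presheaf.exists_germ_eq (x := y) m
    have h1 := congrArg (restrictHom f y N).hom
      (Dcoh.FlatTor.stalkF_map_germ y ((Scheme.Modules.restrictFunctor f).map φ) U hU s)
    have h2 := restrictHom_germ f y N U hU (((Scheme.Modules.restrictFunctor f).map φ).app U s)
    have h3 := Dcoh.FlatTor.stalkF_map_germ (f y) φ (f ''ᵁ U) ⟨y, hU, rfl⟩ s
    have h4 := congrArg ((stalkF (f y)).map φ).hom (restrictHom_germ f y M U hU s)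
    exact (h1.trans h2).trans (h4.trans h3).symm)

/-- On derived categories. -/
noncomputable def stalkDRestrict [PreservesFiniteLimits (Scheme.Modules.restrictFunctor f)] :
    DCoh.restrictD f ⋙ K238.StalkD.stalkD y ⋙ DRing.restrictD (f.stalkMap y).hom ≅
      K238.StalkD.stalkD (f y) :=
  (Functor.associator _ _ _).symm ≪≫
    Functor.isoWhiskerRight (Dcoh.MapDer.mapDerComp (Scheme.Modules.restrictFunctor f) (stalkF y)) _ ≪≫
    Dcoh.MapDer.mapDerCompIso (restrictIso f y)

end Restrict

section Tilde

variable {R : CommRingCat.{u}} (p : Spec R)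

/-- `N → (N~)_p` as a natural transformation. -/
noncomputable def toStNat : 𝟭 (ModuleCat.{u} R) ⟶
    (tilde.functor R ⋙ stalkF p) ⋙ ModuleCat.restrictScalars.{u} (alpha p) where
  app N := toSt p N
  naturality N N' h := by
    ext n
    exact (toSt_naturality p h n).symm

/-- `O_p ⊗ N → (N~)_p`. -/
noncomputable def tildeNat : ModuleCat.extendScalars.{u, u, u} (alpha p) ⟶ tilde.functor R ⋙ stalkF p where
  app N := ((ModuleCat.extendRestrictScalarsAdj.{u, u, u} (alpha p)).homEquiv N _).symm
    ((toStNat p).app N)
  naturality N N' f := by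
    rw [← Adjunction.homEquiv_naturality_left_symm, ← Adjunction.homEquiv_naturality_right_symm]
    congr 1
    exact (toStNat p).naturality f

theorem tildeNat_tmul (N : ModuleCat.{u} R) (b : (Spec R).presheaf.stalk p) (n : N) :
    ((tildeNat p).app N).hom (b ⊗ₜ[R, alpha p] n) =
      b • (show ((stalkF p).obj (tilde N)) from (toSt p N).hom n) := rfl

instance isIso_tildeNat : IsIso (tildeNat p) := by
  rw [NatTrans.isIso_iff_isIso_app]
  intro N
  rw [ConcreteCategory.isIso_iff_bijective]
  let : Algebra R ((Spec R).presheaf.stalk p) := (alpha p).toAlgebra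
  let : Module R ((stalkF p).obj (tilde N)) := Module.compHom _ (alpha p)
  have : IsScalarTower R ((Spec R).presheaf.stalk p) ((stalkF p).obj (tilde N)) :=
    IsScalarTower.of_algebraMap_smul fun _ _ => rfl
  obtain ⟨g, hg, hg'⟩ := isBaseChange_toSt p N
  have h := hg'.equiv.bijective
  have h2 : ∀ z : ((Spec R).presheaf.stalk p) ⊗[R] N, hg'.equiv z = ((tildeNat p).app N).hom z := by
    intro z
    induction z using TensorProduct.induction_on with
    | zero => exact (map_zero _).trans (map_zero ((tildeNat p).app N).hom).symm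
    | tmul b n =>
      rw [IsBaseChange.equiv_tmul, hg]
      exact (tildeNat_tmul p N b n).symm
    | add a b ha hb =>
      exact (map_add _ _ _).trans
        ((congrArg₂ _ ha hb).trans (map_add ((tildeNat p).app N).hom a b).symm)
  exact (funext h2) ▸ h

theorem flat_alpha : (alpha p).Flat := by
  let : Algebra R ((Spec R).presheaf.stalk p) := (alpha p).toAlgebra
  have := isLocalization_alpha p
  exact RingHom.flat_algebraMap_iff.2
    (IsLocalization.flat ((Spec R).presheaf.stalk p) (px p).primeCompl)

/-- On derived categories: the stalk of the derived tilde is the flat base change. -/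
noncomputable def stalkDTilde [PreservesFiniteLimits (tilde.functor R)] :
    DCoh.tildeD R ⋙ K238.StalkD.stalkD p ≅ flatBC (alpha p) (flat_alpha p) :=
  haveI := ModuleCat.preservesFiniteLimits_extendScalars_of_flat (flat_alpha p)
  Dcoh.MapDer.mapDerCompIso (asIso (tildeNat p)).symm

end Tilde

end Groth.Agent.K477.StalkNat
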