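import Groth.Agent.PerfC.RHomPC346
import Groth.Agent.PerfC.LTBound
import Groth.Agent.PerfB.PCNoeth
import Groth.Agent.LoccohB.DCalc
import Mathlib.Algebra.Homology.Double

/-!
# `RHom(L, I)` for a bounded complex `I` of injectives

* `isLE_RH`: `L ∈ D^{≥ c}`, `I` K-injective and strictly `≤ b` implies `RHom(L, I) ∈ D^{≤ b - c}`;
* `isCohD_RH`: on a Noetherian scheme, `RHom(L, K)` has coherent cohomology for any `L` with coherent cohomology
  and any `K` with bounded below coherent cohomology represented by a bounded complex of injectives.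
-/

set_option autoImplicit false

universe u w₁ w₃ v₁ v₂ v₃ u₁ u₂ u₃

open CategoryTheory CategoryTheory.Limits CategoryTheory.Pretriangulated AlgebraicGeometry

attribute [local instance] HasDerivedCategory.standard

namespace Groth.Agent.K477.HomBound

open Groth.Agent.PerfC.DTens Groth.Agent.PerfC.RHomD Groth.Agent.Dcoh.LocalD
  Groth.Agent.PerfC.HomCx Groth.Agent.Dcoh.KFlat Groth.Agent.Dcoh.CxFun

section Total

variable {C₁ : Type u₁} {C₂ : Type u₂} {D : Type u₃} [Category.{v₁} C₁] [Category.{v₂} C₂] [Category.{v₃} D]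
  [Preadditive C₁] [Preadditive C₂] [Preadditive D]
  (T : C₁ ⥤ C₂ ⥤ D) [T.PreservesZeroMorphisms] [∀ X₁, (T.obj X₁).PreservesZeroMorphisms]
  [∀ (K₁ : CochainComplex C₁ ℤ) (K₂ : CochainComplex C₂ ℤ),
    HomologicalComplex.HasMapBifunctor K₁ K₂ T (ComplexShape.up ℤ)]

/-- The total complex of `K^p ⊗ L^q` is bounded below by `a + b`. -/
theorem isZero_map₂_X (K : CochainComplex C₁ ℤ) (L : CochainComplex C₂ ℤ) (a b : ℤ)
    (hK : ∀ p : ℤ, p < a → IsZero (K.X p)) (hL : ∀ q : ℤ, q < b → IsZero (L.X q)) (n : ℤ)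
    (hn : n < a + b) : IsZero (((T.map₂CochainComplex.obj K).obj L).X n) := by
  rw [IsZero.iff_id_eq_zero]
  refine HomologicalComplex.mapBifunctor.hom_ext (K₁ := K) (K₂ := L) (F := T) (fun p q hpq => ?_)
  refine IsZero.eq_of_src ?_ _ _
  have hpq' : p + q = n := hpq
  rcases lt_or_ge p a with hp | hp
  · rw [IsZero.iff_id_eq_zero]
    have h1 : 𝟙 (K.X p) = 0 := (hK p hp).eq_of_src _ _
    have h2 : 𝟙 ((T.obj (K.X p)).obj (L.X q)) = (T.map (𝟙 (K.X p))).app (L.X q) := by simp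
    rw [h2, h1, Functor.map_zero]
    rfl
  · exact (T.obj (K.X p)).map_isZero (hL q (by lia))

end Total

variable {X : Scheme.{u}}

/-- `Hom(E, I)` vanishes in degrees `> b - c` if `E` vanishes below `c` and `I` above `b`. -/
theorem isZero_hC_X (E I : CochainComplex X.Modules ℤ) (b c : ℤ)
    (hE : ∀ q : ℤ, q < c → IsZero (E.X q)) (hI : ∀ q : ℤ, b < q → IsZero (I.X q)) (n : ℤ)
    (hn : b - c < n) : IsZero (((hC E).obj I).X n) := by
  rw [IsZero.iff_id_eq_zero]
  let M := ((hC E).obj I).X n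
  have hne : n ≠ n + 1 := by omega
  have hrel : (ComplexShape.up ℤ).Rel n (n + 1) := rfl
  let Dd : CochainComplex X.Modules ℤ := HomologicalComplex.double (c := ComplexShape.up ℤ) (𝟙 M) hrel
  let r := HomologicalComplex.evalCompCoyonedaCorepresentableByDoubleId (C := X.Modules)
    (c := ComplexShape.up ℤ) hrel hne M
  have hD : ∀ p : ℤ, p < n → IsZero (Dd.X p) := fun p hp =>
    HomologicalComplex.isZero_double_X _ _ p (by omega) (by omega)
  have h2 : ∀ g : Dd ⟶ (hC E).obj I, g = 0 := by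
    intro g
    apply ((hCAdj E).homEquiv _ _).symm.injective
    refine HomologicalComplex.hom_ext _ _ fun k => ?_
    rcases lt_or_ge k (n + c) with hk | hk
    · exact (isZero_map₂_X DCoh.tensorBi Dd E n c hD hE k hk).eq_of_src _ _
    · exact (hI k (by omega)).eq_of_tgt _ _
  have h3 : r.homEquiv (r.homEquiv.symm (𝟙 M : M ⟶ ((hC E).obj I).X n)) = 𝟙 M :=
    r.homEquiv.apply_symm_apply _
  rw [h2 (r.homEquiv.symm (𝟙 M : M ⟶ ((hC E).obj I).X n))] at h3
  have h4 : r.homEquiv (0 : Dd ⟶ (hC E).obj I) = (0 : M ⟶ ((hC E).obj I).X n) := by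
    rw [HomologicalComplex.evalCompCoyonedaCorepresentableByDoubleId_homEquiv_apply]
    exact comp_zero
  rw [h4] at h3
  exact h3.symm

/-- `RHom(L, I)` is bounded above. -/
theorem isLE_RH (L : DCoh.D X) (I : CochainComplex X.Modules ℤ) (hI : I.IsKInjective) (b c : ℤ)
    (hb : ∀ q : ℤ, b < q → IsZero (I.X q)) [L.IsGE c] :
    ((RH L).obj (DerivedCategory.Q.obj I)).IsLE (b - c) := by
  obtain ⟨E, hE, ⟨e⟩⟩ := DerivedCategory.exists_iso_Q_obj_of_isGE L c
  have h1 : (DerivedCategory.Q.obj ((hC E).obj I)).IsLE (b - c) := by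
    rw [DerivedCategory.isLE_Q_obj_iff]
    have : ((hC E).obj I).IsStrictlyLE (b - c) := by
      rw [CochainComplex.isStrictlyLE_iff]
      exact fun n hn => isZero_hC_X E I b c (fun q hq => E.isZero_of_isStrictlyGE c q hq) hb n hn
    infer_instance
  exact ⟨(DerivedCategory.TStructure.t.isLE_of_iso
    (toRHIso E I hI ≪≫ rhIso e (DerivedCategory.Q.obj I)) (b - c)).le⟩

open DerivedCategory in
/-- `RHom(L, I)` has coherent cohomology for every `L` with coherent cohomology. -/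
theorem isCohD_RH [IsLocallyNoetherian X] (I : CochainComplex X.Modules ℤ) (hI : I.IsKInjective)
    (a b : ℤ) (hb : ∀ q : ℤ, b < q → IsZero (I.X q)) (ha : (DerivedCategory.Q.obj I).IsGE a)
    (hK : DCoh.IsCohD (DerivedCategory.Q.obj I)) (L : DCoh.D X) (hL : DCoh.IsCohD L) :
    DCoh.IsCohD ((RH L).obj (DerivedCategory.Q.obj I)) := by
  intro i
  let m : ℤ := b - i + 2
  have hΔ := LoccohB.DCalc.triangle_dist L m (m + 1) rfl
  let Δ := (TStructure.t.triangleLEGE m (m + 1) rfl).obj L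
  have h1 : Δ.obj₁.IsLE m := TStructure.t.isLE_truncLE_obj L m m le_rfl
  have h3 : Δ.obj₃.IsGE (m + 1) := TStructure.t.isGE_truncGE_obj L (m + 1) (m + 1) le_rfl
  have h3' : (Δ.obj₃⟦(-1 : ℤ)⟧).IsGE (m + 2) :=
    TStructure.t.isGE_shift Δ.obj₃ (m + 1) (-1) (m + 2) (by omega)
  have z3 : IsZero ((homologyFunctor X.Modules i).obj ((RH Δ.obj₃).obj (Q.obj I))) := by
    have := isLE_RH Δ.obj₃ I hI b (m + 1) hb
    exact isZero_of_isLE _ (b - (m + 1)) i (by omega)
  have z3' : IsZero ((homologyFunctor X.Modules i).obj ((RH (Δ.obj₃⟦(-1 : ℤ)⟧)).obj (Q.obj I))) := by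
    have := isLE_RH (Δ.obj₃⟦(-1 : ℤ)⟧) I hI b (m + 2) hb
    exact isZero_of_isLE _ (b - (m + 2)) i (by omega)
  have hiso := Groth.Agent.PerfC.RHomTri.isIso_homology_ρ (LTX X).flip RH rhAdj
    (fun M => isTriang_LTX_obj M) additive_LTX_flip (Q.obj I) Δ hΔ i z3 z3'
  have hcoh : DCoh.IsCohD Δ.obj₁ := by
    intro k
    rcases le_or_gt k m with hk | hk
    · have := LoccohB.DCalc.isIso_homology_truncLEι L m k hk
      exact PerfA.CohSerre.isCoh_of_iso (asIso ((homologyFunctor X.Modules k).map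
        ((TStructure.t.truncLEι m).app L))).symm (hL k)
    · exact PerfA.CohSerre.isCoh_of_isZero (isZero_of_isLE _ m k hk)
  have hpc : ∀ r : ℤ, DCoh.IsPseudoCoherentD r Δ.obj₁ := fun r =>
    PerfB.PCNoeth.pc_of_isCoh ((m - r).toNat + 1) Δ.obj₁ m r h1
      (by have := Int.self_le_toNat (m - r); push_cast; omega) (fun i _ => hcoh i)
  have h4 : DCoh.IsCohD ((RH Δ.obj₁).obj (Q.obj I)) :=
    PerfC.RHomPC346.coh_rh_pc PerfC.RHomSerre.locSerre_coh (X := X) inferInstance hpc a ha hK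
  exact PerfA.CohSerre.isCoh_of_iso (asIso ((homologyFunctor X.Modules i).map
    (PerfC.RHomTri.ρ (LTX X).flip RH rhAdj Δ.mor₁ (Q.obj I)))).symm (h4 i)

end Groth.Agent.K477.HomBound
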