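import Groth.Agent.Dual.H342.PtChart
import Groth.Agent.Ega4B.DepthFinite
import Groth.Prelude.Def_DualSch

/-!
# The lowest cohomology sheaf of a dualizing complex: `(S_2)` and torsion-freeness

* `delta_le`: if `H^i(ω) = 0` for `i < c` then `δ ≤ -c` everywhere;
* `eq_of_le_of_mem_associatedPrimes`: associated primes of the lowest cohomology module are minimal primes;
* `isTorsionFree_localized`: torsion-freeness over a local ring which is a domain;
* `exists_pt`: charts at points of a scheme with a dualizing complex;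
* `hasSk_two`, `isTorsionFree_stalk`.
-/

set_option autoImplicit false
universe u
open CategoryTheory CategoryTheory.Limits AlgebraicGeometry
attribute [local instance] HasDerivedCategory.standard

namespace Groth.Agent.K477.Lowest

open Groth.Agent Groth.Agent.CalgB.DzData Groth.Agent.Dual.H342

section alg

variable {A : Type u} [CommRing A] [IsNoetherianRing A] {ω : Dual.D A} {δ : PrimeSpectrum A → ℤ}

/-- If `H^i(ω) = 0` for `i < c` then `δ ≤ -c`. -/
theorem delta_le (h : IsDelta ω δ) (c : ℤ)
    (hzero : ∀ i : ℤ, i < c → IsZero ((DerivedCategory.homologyFunctor (ModuleCat.{u} A) i).obj ω))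
    (q : PrimeSpectrum A) : δ q ≤ -c := by
  obtain ⟨r, hr, hrq⟩ := Ideal.exists_minimalPrimes_le (I := (⊥ : Ideal A)) (J := q.asIdeal) bot_le
  have hrprime : r.IsPrime := hr.1.1
  have hqass : (⟨r, hrprime⟩ : PrimeSpectrum A).asIdeal ∈ associatedPrimes A A := by
    refine Module.associatedPrimes.minimalPrimes_annihilator_subset_associatedPrimes A A ?_
    rw [Module.annihilator_eq_bot.mpr inferInstance]
    exact hr
  have h1 := h.mem_of_mem_associatedPrimes ⟨r, hrprime⟩ A hqass
  rw [← support_HD] at h1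
  have h2 := LoccohA.DimFun.le_of_le h.cov (show (⟨r, hrprime⟩ : PrimeSpectrum A) ≤ q from hrq)
  by_contra hlt
  have h3 : Subsingleton (Dual.HD A ω (-δ ⟨r, hrprime⟩)) :=
    ModuleCat.subsingleton_of_isZero (hzero _ (by omega))
  rw [Module.support_eq_empty] at h1
  exact h1

/-- An associated prime of the lowest cohomology module is a minimal prime. -/
theorem eq_of_le_of_mem_associatedPrimes (hω : Dual.IsDualizing A ω) (h : IsDelta ω δ)
    (c : ℤ)
    (hzero : ∀ i : ℤ, i < c → IsZero ((DerivedCategory.homologyFunctor (ModuleCat.{u} A) i).obj ω))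
    (P : PrimeSpectrum A) (hp : P.asIdeal ∈ associatedPrimes A (Dual.HD A ω c))
    (r : PrimeSpectrum A) (hr : r ≤ P) : r = P := by
  have hfin : Module.Finite A (Dual.HD A ω c) := hω.finite_cohomology _
  have hle := delta_le h c hzero
  have h1 : ¬ (1 : ℕ∞) ≤ LocCoh.depth (Localization.AtPrime P.asIdeal)
      (LocalizedModule P.asIdeal.primeCompl (Dual.HD A ω c)) := by
    rw [Ega4B.DepthFinite.one_le_depth_atPrime_iff]
    exact not_not.2 hp
  have h2 := S2Alg.min_le_depth_lowest hω h c hzero P (fun q _ => hle q)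
  have hsupp : P ∈ Module.support A (Dual.HD A ω c) := by
    by_contra hns
    rw [Module.notMem_support_iff] at hns
    refine h1 ?_
    rw [Ega4B.DepthFinite.one_le_depth_iff, associatedPrimes.eq_empty_of_subsingleton]
    exact Set.notMem_empty _
  obtain ⟨q, hqP, hq⟩ := (S2Alg.mem_support_lowest_iff h c P (fun q _ => hle q)).1 hsupp
  have hqs : q ∈ Module.support A (Dual.HD A ω c) :=
    (S2Alg.mem_support_lowest_iff h c q (fun q _ => hle q)).2 ⟨q, le_rfl, hq⟩
  have h3 := LoccohA.DimFun.le_of_le h.cov hqP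
  obtain ⟨k, hk⟩ : ∃ k : ℕ, δ q = δ P + k := ⟨(δ q - δ P).toNat, by omega⟩
  have h4 := h.le_supportDim P _ k q hqs hqP hk
  have h5 : k = 0 := by
    by_contra hne
    have h6 : ((1 : ℕ) : WithBot ℕ∞) ≤ min ((2 : ℕ) : WithBot ℕ∞)
        (Module.supportDim (Localization.AtPrime P.asIdeal)
          (LocalizedModule P.asIdeal.primeCompl (Dual.HD A ω c))) := by
      refine le_min (by exact_mod_cast (show 1 ≤ 2 by omega)) (le_trans ?_ h4)
      exact_mod_cast (show 1 ≤ k by omega)
    have h7 := h6.trans h2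
    exact h1 (by exact_mod_cast h7)
  by_contra hne
  have h10 := LoccohA.DimFun.lt_of_lt h.cov (lt_of_le_of_ne hr hne)
  have h11 := hle r
  omega

/-- Torsion-freeness over a local ring which is a domain. -/
theorem isTorsionFree_localized (hω : Dual.IsDualizing A ω) (h : IsDelta ω δ)
    (c : ℤ)
    (hzero : ∀ i : ℤ, i < c → IsZero ((DerivedCategory.homologyFunctor (ModuleCat.{u} A) i).obj ω))
    (q : PrimeSpectrum A) [IsDomain (Localization.AtPrime q.asIdeal)] :
    Module.IsTorsionFree (Localization.AtPrime q.asIdeal)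
      (LocalizedModule q.asIdeal.primeCompl (Dual.HD A ω c)) := by
  have hN : IsNoetherianRing (Localization.AtPrime q.asIdeal) :=
    IsLocalization.isNoetherianRing q.asIdeal.primeCompl _ inferInstance
  refine Module.isTorsionFree_iff_smul_eq_zero.2 fun a m ham => ?_
  by_contra hne
  rw [not_or] at hne
  have h1 : a ∈ ⋃ p ∈ associatedPrimes (Localization.AtPrime q.asIdeal)
      (LocalizedModule q.asIdeal.primeCompl (Dual.HD A ω c)), (p : Set _) := by
    rw [biUnion_associatedPrimes_eq_zero_divisors]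
    exact ⟨m, hne.2, ham⟩
  simp only [Set.mem_iUnion] at h1
  obtain ⟨p, hp, hap⟩ := h1
  have hprime : p.IsPrime := hp.isPrime
  have hp2 := hp
  rw [← Module.associatedPrimes.preimage_comap_associatedPrimes_eq_associatedPrimes_of_isLocalizedModule
    q.asIdeal.primeCompl (Localization.AtPrime q.asIdeal)
    (LocalizedModule.mkLinearMap q.asIdeal.primeCompl (Dual.HD A ω c)), Set.mem_preimage] at hp2
  have hb : ((⊥ : Ideal (Localization.AtPrime q.asIdeal)).comap
      (algebraMap A (Localization.AtPrime q.asIdeal))).IsPrime := Ideal.IsPrime.comap _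
  have hp' : (p.comap (algebraMap A (Localization.AtPrime q.asIdeal))).IsPrime :=
    Ideal.IsPrime.comap _
  have h3 := eq_of_le_of_mem_associatedPrimes hω h c hzero ⟨_, hp'⟩ hp2 ⟨_, hb⟩
    (Ideal.comap_mono bot_le)
  have h4 : (⊥ : Ideal (Localization.AtPrime q.asIdeal)).comap
      (algebraMap A (Localization.AtPrime q.asIdeal)) =
      p.comap (algebraMap A (Localization.AtPrime q.asIdeal)) :=
    congrArg PrimeSpectrum.asIdeal h3
  have h5 : (⊥ : Ideal (Localization.AtPrime q.asIdeal)) = p := by
    have h6 := congrArg (Ideal.map (algebraMap A (Localization.AtPrime q.asIdeal))) h4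
    rwa [IsLocalization.map_under q.asIdeal.primeCompl,
      IsLocalization.map_under q.asIdeal.primeCompl] at h6
  rw [← h5] at hap
  exact hne.1 hap

end alg

section sch

variable {X : Scheme.{u}}
  [∀ (U : Scheme.{u}) (j : U ⟶ X) [IsOpenImmersion j], PreservesFiniteLimits (Scheme.Modules.restrictFunctor j)]
  [∀ (R : CommRingCat.{u}), PreservesFiniteLimits (tilde.functor R)]

open Groth.Agent.PerfA.Restrict Groth.Agent.PerfA.TildeSupp in
/-- A chart at a point of a scheme carrying a dualizing complex. -/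
theorem exists_pt {K : DCoh.D X} (hK : Dual2.IsDualizingSch X K) (n : ℤ)
    (hlt : ∀ i : ℤ, i < n → IsZero (DCoh.HD K i)) (x : X) :
    ∃ (A : Type u) (_ : CommRing A) (_ : IsNoetherianRing A) (ω : Dual.D A)
      (δ : PrimeSpectrum A → ℤ) (q : PrimeSpectrum A)
      (σ : Localization.AtPrime q.asIdeal ≃+* X.presheaf.stalk x)
      (τ : LocalizedModule q.asIdeal.primeCompl (Dual.HD A ω n) ≃+
        (DCoh.HD K n).presheaf.stalk x),
      Dual.IsDualizing A ω ∧ IsDelta ω δ ∧
      (∀ i : ℤ, i < n → IsZero ((DerivedCategory.homologyFunctor (ModuleCat.{u} A) i).obj ω)) ∧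
      ∀ r m, τ (r • m) = σ r • τ m := by
  obtain ⟨R, j, hj, y, hy⟩ := Scheme.exists_Spec_apply_eq x
  change Spec (CommRingCat.of R) ⟶ X at j
  change PrimeSpectrum R at y
  obtain ⟨ω, hω, ⟨e⟩⟩ := hK R j
  have : IsNoetherianRing R := hω.isNoetherianRing
  obtain ⟨δ, hδ⟩ := exists_isDelta hω
  let homIso (i : ℤ) : (DCoh.HD K i).restrict j ≅
      tilde (R := CommRingCat.of R)
        ((DerivedCategory.homologyFunctor (ModuleCat.{u} R) i).obj ω) :=
    (HDrestrict j K i).symm ≪≫ (DerivedCategory.homologyFunctor _ i).mapIso e ≪≫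
      HDtilde (R := CommRingCat.of R) ω i
  have hzero : ∀ i : ℤ, i < n →
      IsZero ((DerivedCategory.homologyFunctor (ModuleCat.{u} R) i).obj ω) := by
    intro i hi
    have h1 : IsZero (tilde (R := CommRingCat.of R)
        ((DerivedCategory.homologyFunctor (ModuleCat.{u} R) i).obj ω)) :=
      ((Scheme.Modules.restrictFunctor j).map_isZero (hlt i hi)).of_iso (homIso i).symm
    refine (IsZero.iff_id_eq_zero _).2 ((tilde.functor (CommRingCat.of R)).map_injective ?_)
    exact h1.eq_of_src _ _
  obtain ⟨σ, τ, h⟩ := StalkChart.exists_semilinear (CommRingCat.of R) j (DCoh.HD K n) _ (homIso n) y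
  subst hy
  exact ⟨R, inferInstance, inferInstance, ω, δ, y, σ, τ, hω, hδ, hzero, h⟩

/-- The stalks of the lowest cohomology sheaf satisfy `(S_2)`. -/
theorem hasSk_two {K : DCoh.D X} (hK : Dual2.IsDualizingSch X K) (n : ℤ)
    (hlt : ∀ i : ℤ, i < n → IsZero (DCoh.HD K i)) (x : X) :
    LocCoh.HasSk 2 (X.presheaf.stalk x) ((DCoh.HD K n).presheaf.stalk x) := by
  obtain ⟨A, _, _, ω, δ, q, σ, τ, hω, hδ, hz, h⟩ := exists_pt hK n hlt x
  exact Ega4B.SkLocal.hasSk_of_semilinearEquiv 2
    (σ : Localization.AtPrime q.asIdeal →+* X.presheaf.stalk x) σ.bijective τ h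
    (S2Alg.hasSk_two_localized hω hδ n hz q fun r _ => delta_le hδ n hz r)

/-- At a point whose local ring is a domain the lowest cohomology sheaf is torsion-free. -/
theorem isTorsionFree_stalk {K : DCoh.D X} (hK : Dual2.IsDualizingSch X K) (n : ℤ)
    (hlt : ∀ i : ℤ, i < n → IsZero (DCoh.HD K i)) (x : X) [IsDomain (X.presheaf.stalk x)] :
    Module.IsTorsionFree (X.presheaf.stalk x) ((DCoh.HD K n).presheaf.stalk x) := by
  obtain ⟨A, _, _, ω, δ, q, σ, τ, hω, hδ, hz, h⟩ := exists_pt hK n hlt x
  have hdom : IsDomain (Localization.AtPrime q.asIdeal) :=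
    MulEquiv.isDomain (X.presheaf.stalk x) σ.toMulEquiv
  have h2 := isTorsionFree_localized hω hδ n hz q
  refine Module.IsTorsionFree.of_smul_eq_zero fun r m hrm => ?_
  have h3 : σ.symm r • τ.symm m = 0 := by
    apply τ.injective
    rw [h, RingEquiv.apply_symm_apply, AddEquiv.apply_symm_apply, hrm, map_zero]
  rcases Module.isTorsionFree_iff_smul_eq_zero.1 h2 _ _ h3 with h4 | h4
  · left
    exact (map_eq_zero_iff _ σ.symm.injective).1 h4
  · right
    exact (map_eq_zero_iff _ τ.symm.injective).1 h4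

end sch

end Groth.Agent.K477.Lowest
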