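import Groth.Agent.Dual3.K477.NormRes
import Groth.Agent.Dual.H350.LocDual
import Groth.Agent.Dual.H350.Neg

/-!
# Gluing of normalised traces: the trace `Rf_* K ⟶ O_S` over an arbitrary base

`f : X ⟶ S` proper, flat, locally of finite presentation, `(K, ξ)` a relative dualizing pair.

* `IsTr`: the normalised trace of a restriction;
* `compat`: normalised traces are compatible;
* `exists_trace`: the global trace; its restriction to every affine open is universal.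
-/

set_option autoImplicit false

universe u

open CategoryTheory CategoryTheory.Limits AlgebraicGeometry

attribute [local instance] HasDerivedCategory.standard

namespace Groth.Agent.K477.NormGlue

open Groth.Agent.PerfB.BCTot Groth.Agent.PerfB.BCTot.Tot Groth.Agent.PerfB.BCSch Groth.Agent.PerfB.BCShift
  Groth.Agent.Dual.H346.Trace Groth.Agent.K477.NormTr Groth.Agent.K477.NormSch Groth.Agent.K477.NormLoc
  Groth.Agent.K477.NormRes Groth.Agent.Dcoh.DerSch Groth.Agent.Ega1.ADualUniv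
  Groth.Agent.Dual.H336.GlueTot Groth.Agent.PerfC.Supp Groth.Agent.PerfC.ExtZeroD Groth.Agent.PerfA.Restrict
  Groth.Agent.Dual.H351.PairRestrict

attribute [local instance] hasLpull hasRpush

instance instPFL {X Y : Scheme.{u}} (f : X ⟶ Y) [IsSeparated f] :
    PreservesFiniteColimits (Scheme.Modules.pushforward (pullback.diagonal f)) :=
  Sga67.ClosedPush.preservesFiniteColimits_pushforward _

section Geom

variable {X S X' S' : Scheme.{u}} {f : X ⟶ S} {f' : X' ⟶ S'} {jX : X' ⟶ X} {j : S' ⟶ S}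

lemma isPullback_prodMap_snd [Mono j] (sq : IsPullback jX f' f j) :
    IsPullback (prodMap sq.w) (pullback.snd f' f') (pullback.snd f f) jX := by
  have h1 : IsPullback (pullback.fst f' f') (pullback.snd f' f') f' f' := IsPullback.of_hasPullback f' f'
  have h2 : IsPullback (pullback.fst f' f' ≫ jX) (pullback.snd f' f') f (f' ≫ j) := h1.paste_horiz sq
  have h3 : IsPullback (pullback.fst f f) (pullback.snd f f) f f := IsPullback.of_hasPullback f f
  refine IsPullback.of_right (h₁₂ := pullback.fst f f) (v₁₃ := f) (h₂₂ := f) ?_ (prodMap_snd sq.w) h3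
  rw [prodMap_fst, sq.w]
  exact h2

lemma prodMap_comp {X'' S'' : Scheme.{u}} {f'' : X'' ⟶ S''} {iX : X'' ⟶ X'} {i : S'' ⟶ S'}
    (w' : iX ≫ f' = f'' ≫ i) (w : jX ≫ f = f' ≫ j) (w'' : (iX ≫ jX) ≫ f = f'' ≫ i ≫ j) :
    prodMap w' ≫ prodMap w = prodMap w'' := by
  apply pullback.hom_ext
  · rw [Category.assoc, prodMap_fst, reassoc_of% (prodMap_fst w'), prodMap_fst]
  · rw [Category.assoc, prodMap_snd, reassoc_of% (prodMap_snd w'), prodMap_snd]

end Geom

section Compat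

variable {X S X' S' : Scheme.{u}} {f : X ⟶ S} {f' : X' ⟶ S'} {jX : X' ⟶ X} {j : S' ⟶ S}
  [IsOpenImmersion jX] [IsOpenImmersion j] [IsSeparated f] [IsSeparated f']

/-- `τ'` is the normalised trace of the restriction of `(K, ξ)`. -/
def IsTr (w : jX ≫ f = f' ≫ j) {K : DCoh.D X} (ξ : (Dual3.pushD (pullback.diagonal f)).obj (OO X) ⟶
      (DCoh.Lpull (pullback.fst f f)).obj K)
    (τ' : (psi.push f').obj ((restrictD jX).obj K) ⟶ OO S') : Prop :=
  IsUniv f' (OO S') ((restrictD jX).obj K) τ' ∧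
  ∃ (ξ' : (Dual3.pushD (pullback.diagonal f')).obj (OO X') ⟶
        (DCoh.Lpull (pullback.fst f' f')).obj ((restrictD jX).obj K))
      (kM : (⟨pullback f' f', (DCoh.Lpull (pullback.fst f' f')).obj ((restrictD jX).obj K)⟩ :
        Tot dPull.{u}) ⟶ ⟨pullback f f, (DCoh.Lpull (pullback.fst f f)).obj K⟩),
      kM.base = prodMap w ∧ IsCart kM ∧ theta f' ((restrictD jX).obj K) ≫ kR jX K =
        kM ≫ theta f K ∧
      TrMor psi (pullback.diagonal f) (pullback.diagonal f') (xiR f ξ) (xiR f' ξ') (sec.u jX) kM ∧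
      Dual3.IsRelDualizingPair f' ((restrictD jX).obj K) ξ' ∧ Nm f' (xiR f' ξ') τ'

lemma exists_isTr (w : jX ≫ f = f' ≫ j) [CompactSpace S'] [QuasiSeparatedSpace S']
    [UniversallyClosed f'] [LocallyOfFiniteType f']
    [Flat f'] [LocallyOfFinitePresentation f'] {K : DCoh.D X}
    {ξ : (Dual3.pushD (pullback.diagonal f)).obj (OO X) ⟶ (DCoh.Lpull (pullback.fst f f)).obj K}
    (hK : Dual3.IsRelDualizingPair f K ξ) : ∃ τ', IsTr w ξ τ' := by
  have : IsProper f' := {}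
  obtain ⟨ξ', kM, h1, h2, h3, h4, h5⟩ := exists_res w hK
  obtain ⟨τ', hu, hn⟩ := exists_norm_univ f' h5
  exact ⟨τ', hu, ξ', kM, h1, h2, h3, h4, h5, hn⟩

/-- **Normalised traces are compatible.** -/
theorem compat {w : jX ≫ f = f' ≫ j} {K : DCoh.D X}
    {ξ : (Dual3.pushD (pullback.diagonal f)).obj (OO X) ⟶ (DCoh.Lpull (pullback.fst f f)).obj K}
    {τ' : (psi.push f').obj ((restrictD jX).obj K) ⟶ OO S'} (h' : IsTr w ξ τ')
    [Flat f'] [LocallyOfFinitePresentation f'] [QuasiCompact f']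
    {X'' S'' : Scheme.{u}} {f'' : X'' ⟶ S''} {iX : X'' ⟶ X'} {i : S'' ⟶ S'} [IsOpenImmersion iX]
    [IsOpenImmersion i]
    [CompactSpace S''] [QuasiSeparatedSpace S''] [IsProper f'']
    [Flat f''] [LocallyOfFinitePresentation f'']
    (sq : IsPullback iX f'' f' i) {j'' : S'' ⟶ S} {jX'' : X'' ⟶ X} [IsOpenImmersion j'']
    [IsOpenImmersion jX''] (e₁ : iX ≫ jX = jX'')
    (e₂ : i ≫ j = j'') {w'' : jX'' ≫ f = f'' ≫ j''}
    {τ'' : (psi.push f'').obj ((restrictD jX'').obj K) ⟶ OO S''} (h'' : IsTr w'' ξ τ'') :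
    ∃ k : (⟨X'', (restrictD jX'').obj K⟩ : Tot dPull.{u}) ⟶ ⟨X', (restrictD jX).obj K⟩,
      k.base = iX ∧ IsCart k ∧ k ≫ kR jX K = kR jX'' K ∧ TrMor psi f' f'' τ' τ'' k (sec.u i) := by
  subst e₁ e₂
  obtain ⟨hu', ξ', kM', b', c', t', x', p', n'⟩ := h'
  obtain ⟨hu'', ξ'', kM'', b'', c'', t'', x'', p'', n''⟩ := h''
  obtain ⟨k, hk, ek⟩ := (isCart_kR (jX := jX) K).lift (kR (iX ≫ jX) K) iX rfl
  have ck : IsCart k := by
    rw [← isCart_comp_iff (isCart_kR (jX := jX) K), ek]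
    exact isCart_kR K
  obtain ⟨m, hm, em⟩ := c'.lift kM'' (prodMap sq.w) (by
    rw [b', b'']
    exact prodMap_comp _ _ _)
  have cm : IsCart m := by
    rw [← isCart_comp_iff c', em]
    exact c''
  have e : theta f'' ((restrictD (iX ≫ jX)).obj K) ≫ k = m ≫ theta f' ((restrictD jX).obj K) := by
    refine (isCart_kR (jX := jX) K).uniq ?_ ?_
    · rw [comp_base, comp_base, hk, hm]
      exact (prodMap_fst sq.w).symm
    · rw [Category.assoc, Category.assoc, ek, t', reassoc_of% em, t'']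
  have sqΔ := isPullback_diagonal sq.w
  have bξ : TrMor psi (pullback.diagonal f') (pullback.diagonal f'') (xiR f' ξ') (xiR f'' ξ'')
      (sec.u iX) m := by
    refine x'.cancel ?_ ?_ ?_
    · rw [← sec.u_comp iX jX] at x''
      rw [em]
      exact x''
    · rw [b']
      exact bc_open (isPullback_diagonal w) _ (sec.u_base jX) (sec.u_cart jX)
    · rw [sec.u_base, hm]
      exact sqΔ.w
  have bk : BC k f' f'' (sec.u i).base := by
    rw [sec.u_base]
    exact bc_open sq k hk ck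
  obtain ⟨τ₁, hτ₁⟩ := exists_trMor (Ψ := psi) (P := dPull.{u}) (f := f') (f' := f'') τ' k (sec.u i) (by
    rw [sec.u_base, hk]
    exact sq.w) bk
  have hq'' := hu''.qcoh
  obtain ⟨τ₂', hτ₂'⟩ := exists_trMor₂ f'' hq'' τ₁
  have n₁ : Nm f'' (xiR f'' ξ'') τ₁ := by
    refine IsNorm.restrict (P := dPull.{u}) n' sq.w (prodMap_snd sq.w) (pullback.diagonal_snd f'') hm e bξ hτ₁
      hτ₂' (bc_theta f' hu'.qcoh) (bc_open sqΔ _ (sec.u_base iX) (sec.u_cart iX)) ?_
    intro N N' s hs cs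
    exact bc_open (isPullback_prodMap_snd sq) s hs cs
  have h1 := norm_unique f'' p'' hu'' n'' n₁
  subst h1
  exact ⟨k, hk, ck, ek, hτ₁⟩

end Compat

section Sq

variable {X S X' S' X'' S'' : Scheme.{u}} {f : X ⟶ S} {f' : X' ⟶ S'} {jX : X' ⟶ X} {j : S' ⟶ S}
  {f'' : X'' ⟶ S''} {jX'' : X'' ⟶ X} {j'' : S'' ⟶ S}

lemma exists_sq [Mono j] (sq : IsPullback jX f' f j) (sq'' : IsPullback jX'' f'' f j'') (i : S'' ⟶ S')
    (e : i ≫ j = j'') : ∃ iX : X'' ⟶ X', iX ≫ jX = jX'' ∧ IsPullback iX f'' f' i := by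
  subst e
  have h1 : jX'' ≫ f = (f'' ≫ i) ≫ j := sq''.w.trans (Category.assoc _ _ _).symm
  refine ⟨sq.lift jX'' (f'' ≫ i) h1, sq.lift_fst _ _ _, ?_⟩
  refine IsPullback.of_right (h₁₂ := jX) (v₁₃ := f) (h₂₂ := j) ?_ (sq.lift_snd _ _ _) sq
  rw [sq.lift_fst]
  exact sq''

variable [IsOpenImmersion j] [IsOpenImmersion jX] [IsOpenImmersion j''] [IsOpenImmersion jX'']
  [IsProper f]
  [IsProper f'] [Flat f'] [LocallyOfFinitePresentation f']
  [IsProper f''] [Flat f''] [LocallyOfFinitePresentation f'']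

/-- **Normalised traces are compatible.** -/
theorem compat' (sq : IsPullback jX f' f j) (sq'' : IsPullback jX'' f'' f j'')
    {K : DCoh.D X}
    {ξ : (Dual3.pushD (pullback.diagonal f)).obj (OO X) ⟶ (DCoh.Lpull (pullback.fst f f)).obj K}
    {τ' : (psi.push f').obj ((restrictD jX).obj K) ⟶ OO S'} (h' : IsTr sq.w ξ τ')
    [CompactSpace S''] [QuasiSeparatedSpace S'']
    {τ'' : (psi.push f'').obj ((restrictD jX'').obj K) ⟶ OO S''} (h'' : IsTr sq''.w ξ τ'')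
    (i : S'' ⟶ S') (e : i ≫ j = j'') :
    ∃ k : (⟨X'', (restrictD jX'').obj K⟩ : Tot dPull.{u}) ⟶ ⟨X', (restrictD jX).obj K⟩,
      k.base ≫ jX = jX'' ∧ IsCart k ∧ k ≫ kR jX K = kR jX'' K ∧ TrMor psi f' f'' τ' τ'' k (sec.u i) := by
  obtain ⟨iX, e₁, sqi⟩ := exists_sq sq sq'' i e
  have : IsOpenImmersion (i ≫ j) := by rw [e]; infer_instance
  have : IsOpenImmersion i := IsOpenImmersion.of_comp i j
  have : IsOpenImmersion (iX ≫ jX) := by rw [e₁]; infer_instance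
  have : IsOpenImmersion iX := IsOpenImmersion.of_comp iX jX
  obtain ⟨k, h1, h2, h3, h4⟩ := compat h' sqi e₁ e h''
  exact ⟨k, by rw [h1, e₁], h2, h3, h4⟩

end Sq

section Neg

variable {X S : Scheme.{u}} (f : X ⟶ S) [IsProper f] [Flat f] [LocallyOfFinitePresentation f]

/-- Negative `Hom`s from `Rf_* K` to `O_S` vanish. -/
theorem neg_push {K : DCoh.D X} (hK : Dual3.IsRelDualizing f K) {τ : (DCoh.Rpush f).obj K ⟶ OO S}
    (hu : IsUniv f (OO S) K τ) (n : ℤ) (hn : n < 0) (g : (DCoh.Rpush f).obj K ⟶ (OO S)⟦n⟧) : g = 0 := by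
  let _ := rpushCommShift f
  have h0 : ∀ φ : K⟦-n⟧ ⟶ K, φ = 0 := fun φ => by
    have h1 := Dual.H350.Neg.nprop f K hK n hn
    exact (Dual.H329.Van.shiftEquivHom K K n).injective ((h1 _).trans (h1 _).symm)
  have h1 : ∀ y : ((DCoh.Rpush f).obj K)⟦-n⟧ ⟶ OO S, y = 0 := fun y => by
    obtain ⟨φ, hφ⟩ := hu.exists_lift (PerfA.QCohD.isQCohD_shift hu.qcoh (-n))
      (((DCoh.Rpush f).commShiftIso (-n)).hom.app K ≫ y)
    rw [h0 φ, Functor.map_zero, Limits.zero_comp] at hφ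
    rw [← cancel_epi (((DCoh.Rpush f).commShiftIso (-n)).hom.app K), ← hφ, Limits.comp_zero]
  let e := Dual.H329.Van.shiftEquivHom ((DCoh.Rpush f).obj K) (OO S) n
  have h2 : e.symm g = e.symm 0 := (h1 _).trans (h1 _).symm
  exact e.symm.injective h2

end Neg

section Glue

lemma neg_of_cart {S' S : Scheme.{u}} {j : S' ⟶ S} [IsOpenImmersion j] {A M N : DCoh.D S}
    (hA : ∀ n, supp A n ⊆ Set.range j) (a : A ⟶ M) (ha : IsIso ((restrictD j).map a)) {M' N' : DCoh.D S'}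
    (c : (⟨S', M'⟩ : Tot dPull.{u}) ⟶ ⟨S, M⟩) (hc : c.base = j) (cc : IsCart c)
    (d : (⟨S', N'⟩ : Tot dPull.{u}) ⟶ ⟨S, N⟩) (hd : d.base = j) (cd : IsCart d) (n : ℤ)
    (h : ∀ g : M' ⟶ N'⟦n⟧, g = 0) (g : A ⟶ N⟦n⟧) : g = 0 := by
  obtain ⟨e₁⟩ := nonempty_iso_of_cart c hc cc
  obtain ⟨e₂⟩ := nonempty_iso_of_cart d hd cd
  refine (bijective_restrictD_map j A (N⟦n⟧) hA).1 ?_
  dsimp only
  rw [Functor.map_zero]
  have h1 := h (e₁.inv ≫ inv ((restrictD j).map a) ≫ (restrictD j).map g ≫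
    ((restrictD j).commShiftIso n).hom.app N ≫ e₂.hom⟦n⟧')
  have h2 := (Preadditive.IsIso.comp_left_eq_zero _ _).1 h1
  have h3 := (Preadditive.IsIso.comp_left_eq_zero _ _).1 h2
  exact (Preadditive.IsIso.comp_right_eq_zero _ _).1 h3

/-- Gluing of morphisms, in the total category. -/
theorem exists_glueHom {S : Scheme.{u}} (B : S.Opens → Prop)
    (hB : ∀ (x : S) (V : S.Opens), x ∈ V → ∃ W, B W ∧ x ∈ W ∧ W ≤ V) {M N : DCoh.D S}
    (N' : ∀ V : {V : S.Opens // B V}, DCoh.D V.1.toScheme)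
    (u : ∀ V : {V : S.Opens // B V}, (⟨V.1.toScheme, N' V⟩ : Tot dPull.{u}) ⟶ ⟨S, N⟩)
    (hu : ∀ V, (u V).base = V.1.ι) (cu : ∀ V, IsCart (u V))
    (σ : ∀ V : {V : S.Opens // B V}, (⟨V.1.toScheme, N' V⟩ : Tot dPull.{u}) ⟶ ⟨S, M⟩)
    (hσ : ∀ V, (σ V).base = V.1.ι)
    (hc : ∀ (V' V : {V : S.Opens // B V}) (_ : V'.1 ≤ V.1),
      ∃ r : (⟨V'.1.toScheme, N' V'⟩ : Tot dPull.{u}) ⟶ ⟨V.1.toScheme, N' V⟩, r ≫ u V = u V' ∧ r ≫ σ V = σ V')
    (hn : ∀ (V : {V : S.Opens // B V}) (A : DCoh.D S) (a : A ⟶ M), (∀ n, supp A n ⊆ Set.range V.1.ι) →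
      IsIso ((restrictD V.1.ι).map a) → ∀ n < (0 : ℤ), ∀ g : A ⟶ N⟦n⟧, g = 0) :
    ∃ τ : M ⟶ N, ∀ V, u V ≫ ver τ = σ V := by
  let A : {V : S.Opens // B V} → DCoh.D S := fun V => Dual.H350.LocDual.TV V.1 M
  let a : ∀ V, A V ⟶ M := fun V => Dual.H350.LocDual.cV V.1 M
  have hA : ∀ V n, supp (A V) n ⊆ Set.range V.1.ι := fun V n => Dual.H350.LocDual.suppIn_TV V.1 _ n
  have ha : ∀ V, IsIso ((restrictD V.1.ι).map (a V)) := fun V => Dual.H350.LocDual.isIso_cV V.1 _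
  have hg := fun V : {V : S.Opens // B V} => exists_hom (j := V.1.ι) (N := N) (hA V)
    (σ V ≫ ver (a V)) (u V) (by
      rw [comp_base, hσ, ver_base]
      exact Category.comp_id _) (hu _) (cu _)
  choose g hg using hg
  obtain ⟨τ, h1, -⟩ := Dual.H329.Van.HSfree_basis B hB (K := M) (L := N) A a
    (fun V n => by
      have := hA V n
      rwa [Scheme.Opens.range_ι] at this) ha
    (fun V n hn' y => hn V (A V) (a V) (hA V) (ha V) n hn' y) g
    (fun V' V h v hv => by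
      obtain ⟨r, h1, h2⟩ := hc V' V h
      refine hom_uniq (hA V') (u V') (hu _) (cu _) ?_
      rw [← ver_comp_ver, hg V', ← h1, Category.assoc, reassoc_of% (hg V), reassoc_of% h2,
        ver_comp_ver, hv])
  refine ⟨τ, fun V => ?_⟩
  refine cancel_ver (a V) (ha V) ?_ (hσ V) ?_
  · rw [comp_base, ver_base, hu]
    exact Category.comp_id _
  · rw [← hg V, Category.assoc, ver_comp_ver, h1]

variable {X S : Scheme.{u}} (f : X ⟶ S) [IsProper f] [Flat f] [LocallyOfFinitePresentation f]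

/-- **The trace.** -/
theorem exists_trace {K : DCoh.D X}
    {ξ : (Dual3.pushD (pullback.diagonal f)).obj (OO X) ⟶ (DCoh.Lpull (pullback.fst f f)).obj K}
    (hK : Dual3.IsRelDualizingPair f K ξ) :
    ∃ τ : (psi.push f).obj K ⟶ OO S, ∀ V : {V : S.Opens // IsAffineOpen V},
      ∃ τ' : (psi.push (f ∣_ V.1)).obj ((restrictD (f ⁻¹ᵁ V.1).ι).obj K) ⟶ OO V.1.toScheme,
        IsTr (isPullback_morphismRestrict f V.1).flip.w ξ τ' ∧
          TrMor psi f (f ∣_ V.1) τ τ' (kR (f ⁻¹ᵁ V.1).ι K) (sec.u V.1.ι) := by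
  have hV : ∀ V : {V : S.Opens // IsAffineOpen V}, CompactSpace V.1.toScheme ∧
      QuasiSeparatedSpace V.1.toScheme := fun V => by
    have : IsAffine V.1.toScheme := V.2
    exact ⟨inferInstance, inferInstance⟩
  have hτ : ∀ V : {V : S.Opens // IsAffineOpen V},
      ∃ τ' : (psi.push (f ∣_ V.1)).obj ((restrictD (f ⁻¹ᵁ V.1).ι).obj K) ⟶ OO V.1.toScheme,
        IsTr (isPullback_morphismRestrict f V.1).flip.w ξ τ' := fun V => by
    obtain ⟨_, _⟩ := hV V
    exact exists_isTr _ hK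
  choose τ' hτ' using hτ
  -- the arrows of direct images
  have hs := fun V : {V : S.Opens // IsAffineOpen V} => exists_desc psi f (f ∣_ V.1)
    (kR (f ⁻¹ᵁ V.1).ι K) V.1.ι (isPullback_morphismRestrict f V.1).flip.w
  choose s hs as using hs
  have cs : ∀ V, IsCart (s V) := fun V =>
    (bc_open (isPullback_morphismRestrict f V.1).flip (kR (f ⁻¹ᵁ V.1).ι K) rfl (isCart_kR K)) _ _ _ _ _
      rfl rfl (hs V) (isCocart_arr _ _ _) (isCocart_arr _ _ _) (as V)
  obtain ⟨τ, hτ⟩ := exists_glueHom (fun V : S.Opens => IsAffineOpen V) (fun x V hx => by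
      obtain ⟨W, hW, hxW, hWV⟩ := TopologicalSpace.Opens.isBasis_iff_nbhd.1 S.isBasis_affineOpens hx
      exact ⟨W, hW, hxW, hWV⟩) (M := (psi.push f).obj K) (N := OO S) (fun V => OO V.1.toScheme)
    (fun V => sec.u V.1.ι) (fun V => sec.u_base _) (fun V => sec.u_cart _)
    (fun V => ver (τ' V) ≫ s V) (fun V => by
      rw [comp_base, ver_base, hs]
      exact Category.id_comp _)
    (fun V' V h => by
      obtain ⟨_, _⟩ := hV V'
      obtain ⟨k, hk, ck, ek, t, ht, at', bt⟩ := compat' (isPullback_morphismRestrict f V.1).flip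
        (isPullback_morphismRestrict f V'.1).flip (hτ' V) (hτ' V') (S.homOfLE h) (S.homOfLE_ι h)
      have h1 : t ≫ s V = s V' := by
        refine (isCocart_arr psi (f ∣_ V'.1) _).uniq ?_ ?_
        · rw [comp_base, ht, sec.u_base, hs, hs, S.homOfLE_ι]
        · rw [reassoc_of% at', as, as, ← Category.assoc, ek]
      refine ⟨sec.u (S.homOfLE h), ?_, ?_⟩
      · have h2 := sec.u_comp (S.homOfLE h) V.1.ι
        rwa [S.homOfLE_ι] at h2
      · have h2 := congrArg (fun x => x ≫ s V) bt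
        dsimp only at h2
        rw [Category.assoc, h1] at h2
        exact (Category.assoc _ _ _).symm.trans h2.symm)
    (fun V A a hA ha n hn y => by
      obtain ⟨_, _⟩ := hV V
      obtain ⟨hu, ξ', kM, -, -, -, -, hp, -⟩ := hτ' V
      exact neg_of_cart hA a ha (s V) (hs V) (cs V) (sec.u V.1.ι) (sec.u_base _) (sec.u_cart _) n
        (neg_push (f ∣_ V.1) ⟨ξ', hp⟩ hu n hn) y)
  exact ⟨τ, fun V => ⟨τ' V, hτ' V, s V, by rw [hs, sec.u_base], as V, (hτ V).symm⟩⟩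

/-- The trace over an arbitrary affine open subscheme. -/
theorem exists_trace_affine {K : DCoh.D X}
    {ξ : (Dual3.pushD (pullback.diagonal f)).obj (OO X) ⟶ (DCoh.Lpull (pullback.fst f f)).obj K}
    (hK : Dual3.IsRelDualizingPair f K ξ) :
    ∃ τ : (psi.push f).obj K ⟶ OO S, ∀ {S' X' : Scheme.{u}} (i : S' ⟶ S) [IsOpenImmersion i] [IsAffine S']
      (j : X' ⟶ X) [IsOpenImmersion j] (f' : X' ⟶ S') [IsProper f'] (sq : IsPullback j f' f i),
      ∃ τ' : (psi.push f').obj ((restrictD j).obj K) ⟶ OO S',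
        IsTr sq.w ξ τ' ∧ TrMor psi f f' τ τ' (kR j K) (sec.u i) := by
  obtain ⟨τ, hτ⟩ := exists_trace f hK
  refine ⟨τ, ?_⟩
  intro S' X' i _ _ j _ f' _ sq
  have hV : IsAffineOpen i.opensRange := isAffineOpen_opensRange i
  obtain ⟨τ₀, h0, h1⟩ := hτ ⟨i.opensRange, hV⟩
  have : Flat f' := MorphismProperty.of_isPullback sq inferInstance
  have : LocallyOfFinitePresentation f' := MorphismProperty.of_isPullback sq inferInstance
  obtain ⟨τ', h'⟩ := exists_isTr sq.w hK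
  obtain ⟨k, hk, ck, ek, ht⟩ := compat' (isPullback_morphismRestrict f i.opensRange).flip sq h0 h'
    i.isoOpensRange.hom i.isoOpensRange_hom_ι
  refine ⟨τ', h', ?_⟩
  have h2 := ht.comp h1
  have h3 := sec.u_comp i.isoOpensRange.hom i.opensRange.ι
  rw [i.isoOpensRange_hom_ι] at h3
  rw [ek] at h2
  exact h3 ▸ h2

end Glue

section Final

open Groth.Agent.Dual.H307.MonSquare

section Aux

variable {X S X' S' : Scheme.{u}} {f : X ⟶ S} {f' : X' ⟶ S'} {j : X' ⟶ X} {i : S' ⟶ S}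
  [IsOpenImmersion i] [IsOpenImmersion j]

lemma ver_comp_lift (K : DCoh.D X) : ver ((eR j).inv.app K) ≫ kR j K = cartLift (P := dPull.{u}) ⟨X, K⟩ j := by
  refine (ver_comp' (P := dPull.{u}) ((eR j).inv.app K) (B := ⟨X, K⟩) j ((eR j).hom.app K)).trans ?_
  rw [Iso.hom_inv_id_app]
  rfl

omit [IsOpenImmersion i] in
lemma trMor_lift {K : DCoh.D X} {O : DCoh.D S} {O' : DCoh.D S'} {τ : (psi.push f).obj K ⟶ O}
    {τ₀ : (psi.push f').obj ((restrictD j).obj K) ⟶ O'} {m : (⟨S', O'⟩ : Tot dPull.{u}) ⟶ ⟨S, O⟩}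
    (h : TrMor psi f f' τ τ₀ (kR j K) m) :
    TrMor psi f f' τ ((psi.push f').map ((eR j).hom.app K) ≫ τ₀) (cartLift (P := dPull.{u}) ⟨X, K⟩ j) m := by
  have h1 : TrMor psi f' f' τ₀ ((psi.push f').map ((eR j).hom.app K) ≫ τ₀) (ver ((eR j).inv.app K)) (𝟙 _) := by
    refine (trMor_ver_iff (K := O') _).2 ?_
    rw [← Category.assoc, ← Functor.map_comp, Iso.inv_hom_id_app, CategoryTheory.Functor.map_id]
    exact Category.id_comp _
  have h2 := h1.comp h
  rw [ver_comp_lift, Category.id_comp] at h2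
  exact h2

omit [IsOpenImmersion i] [IsOpenImmersion j] in
lemma isUniv_of_eq (sq : IsPullback j f' f i) {K : DCoh.D X} (hb : IsIso ((beta sq.w).app K))
    {τ : (DCoh.Rpush f).obj K ⟶ OO S}
    {τ₁ : (DCoh.Rpush f').obj ((DCoh.Lpull j).obj K) ⟶ OO S'}
    {κ : (DCoh.Lpull i).obj (OO S) ⟶ OO S'} (hκ : IsIso κ)
    (h : (beta sq.w).app K ≫ τ₁ = (DCoh.Lpull i).map τ ≫ κ)
    (hu : IsUniv f' (OO S') ((DCoh.Lpull j).obj K) τ₁) {A : DCoh.D S} (e : OO S ≅ A)
    {τ' : (DCoh.Rpush f').obj ((DCoh.Lpull j).obj K) ⟶ (DCoh.Lpull i).obj A}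
    (h' : (beta sq.w).app K ≫ τ' = (DCoh.Lpull i).map (τ ≫ e.hom)) :
    IsUniv f' ((DCoh.Lpull i).obj A) ((DCoh.Lpull j).obj K) τ' := by
  have h1 : τ' = τ₁ ≫ inv κ ≫ (DCoh.Lpull i).map e.hom := by
    rw [← cancel_epi ((beta sq.w).app K), h', reassoc_of% h, Functor.map_comp, IsIso.hom_inv_id_assoc]
  have h2 := hu.of_iso (Iso.refl _) ((asIso κ).symm ≪≫ (DCoh.Lpull i).mapIso e) hu.qcoh
  rw [h1]
  simpa using h2

theorem isUniv_of_tr (sq : IsPullback j f' f i) {K : DCoh.D X} {τ : (DCoh.Rpush f).obj K ⟶ OO S}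
    {τ₀ : (DCoh.Rpush f').obj ((restrictD j).obj K) ⟶ OO S'}
    (hu : IsUniv f' (OO S') ((restrictD j).obj K) τ₀)
    (h : TrMor psi f f' τ τ₀ (kR j K) (sec.u i)) {A : DCoh.D S} (e : OO S ≅ A)
    {τ' : (DCoh.Rpush f').obj ((DCoh.Lpull j).obj K) ⟶ (DCoh.Lpull i).obj A}
    (h' : (beta sq.w).app K ≫ τ' = (DCoh.Lpull i).map (τ ≫ e.hom)) :
    IsUniv f' ((DCoh.Lpull i).obj A) ((DCoh.Lpull j).obj K) τ' := by
  obtain ⟨κ, hκ, eκ⟩ := exists_fib (sec.u i) (sec.u_base i) (sec.u_cart i)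
  have h1 := trMor_lift h
  rw [eκ] at h1
  have h2 := beta_comp_of_trMor sq.w τ ((DCoh.Rpush f').map ((eR j).hom.app K) ≫ τ₀) κ h1
  have hq : DCoh.IsQCohD ((DCoh.Lpull j).obj K) := PerfA.QCohD.isQCohD_of_iso ((eR j).symm.app K) hu.qcoh
  have h3 : IsUniv f' (OO S') ((DCoh.Lpull j).obj K) ((DCoh.Rpush f').map ((eR j).hom.app K) ≫ τ₀) := by
    have h4 := hu.of_iso ((eR j).symm.app K) (Iso.refl _) hq
    rw [Iso.refl_hom, Category.comp_id] at h4
    exact h4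
  refine isUniv_of_eq sq ?_ hκ h2 ?_ e h'
  · exact Dual.H307.BcGen.isIso_beta_of_bc sq.w K (PerfB.BCGeom.bc_openD sq K)
  · exact h3

end Aux

variable {X S : Scheme.{u}} (f : X ⟶ S) [IsProper f] [Flat f] [LocallyOfFinitePresentation f]

/-- **The trace**: there is `τ : Rf_* K ⟶ O_S` whose restriction to every affine open subscheme is universal. -/
theorem exists_univ {K : DCoh.D X} (hK : Dual3.IsRelDualizing f K) {A : DCoh.D S} (e : OO S ≅ A) :
    ∃ τ : (DCoh.Rpush f).obj K ⟶ A, ∀ {S' X' : Scheme.{u}} (i : S' ⟶ S) [IsOpenImmersion i] [IsAffine S']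
      (j : X' ⟶ X) (f' : X' ⟶ S') (sq : IsPullback j f' f i)
      (τ' : (DCoh.Rpush f').obj ((DCoh.Lpull j).obj K) ⟶ (DCoh.Lpull i).obj A),
      (beta sq.w).app K ≫ τ' = (DCoh.Lpull i).map τ →
        IsUniv f' ((DCoh.Lpull i).obj A) ((DCoh.Lpull j).obj K) τ' := by
  obtain ⟨ξ, hξ⟩ := hK
  obtain ⟨τ, hτ⟩ := exists_trace_affine f hξ
  refine ⟨τ ≫ e.hom, ?_⟩
  intro S' X' i _ _ j f' sq τ' hτ'
  have : IsOpenImmersion j := MorphismProperty.of_isPullback sq.flip inferInstance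
  have : IsProper f' := MorphismProperty.of_isPullback sq inferInstance
  obtain ⟨τ₀, h0, h1⟩ := hτ i j f' sq
  exact isUniv_of_tr sq h0.1 h1 e hτ'

end Final

end Groth.Agent.K477.NormGlue
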