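import Groth.Agent.Dual3.K477.NormSch
import Groth.Agent.Dual.H354.Main
import Groth.Agent.Dual.H354.QcBC
import Groth.Agent.Dual.H350.UChart
import Groth.Agent.S1002

/-!
# Normalised traces for the relative dualizing complex, over quasi-compact quasi-separated bases

`f : X ⟶ S` proper, flat, locally of finite presentation, `S` qcqs, `(K, ξ)` a relative dualizing pair.  There is
exactly one normalised trace `τ : Rf_* K ⟶ O_S`, and it is universal.
-/

set_option autoImplicit false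

universe u

open CategoryTheory CategoryTheory.Limits AlgebraicGeometry

attribute [local instance] HasDerivedCategory.standard

namespace Groth.Agent.K477.NormLoc

open Groth.Agent.PerfB.BCTot Groth.Agent.PerfB.BCTot.Tot Groth.Agent.PerfB.BCSch Groth.Agent.PerfB.BCShift
  Groth.Agent.Dual.H346.Trace Groth.Agent.K477.NormTr Groth.Agent.K477.NormSch Groth.Agent.Dual.H307.MonSquare
  Groth.Agent.Dcoh.DerSch Groth.Agent.Ega1.ADualUniv Groth.Agent.Dual.H351.UnivArrow

attribute [local instance] hasLpull hasRpush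

lemma qcoh_OO (X : Scheme.{u}) : DCoh.IsQCohD (OO X) :=
  PerfA.QCohD.isQCohD_inD _ (Ega2.QCohLocal.isQCoh_structureModule X)

section Abs

universe v₁ u₁ v₂ u₂

variable {𝒮 : Type u₁} [Category.{v₁} 𝒮] {D : 𝒮 → Type u₂} [∀ X, Category.{v₂} (D X)]
  (P : PullData D)

lemma ver_map_comp_cartLift {Q X : 𝒮} (p : Q ⟶ X) {K₀ K : D X} (φ : K₀ ⟶ K) :
    ver ((P.pull p).map φ) ≫ cartLift (P := P) ⟨X, K₀⟩ p = cartLift (P := P) ⟨X, K⟩ p ≫ ver φ := by
  refine (ver_comp' (P := P) ((P.pull p).map φ) (B := ⟨X, K₀⟩) p (𝟙 _)).trans ?_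
  refine Eq.trans ?_ (comp_ver' (P := P) (A := ⟨Q, (P.pull p).obj K⟩) φ p (𝟙 _)).symm
  rw [Category.id_comp, Category.comp_id]

end Abs

lemma exists_fib {X S : Scheme.{u}} {A : DCoh.D X} {B : DCoh.D S} {f : X ⟶ S}
    (m : (⟨X, A⟩ : Tot dPull.{u}) ⟶ ⟨S, B⟩) (hb : m.base = f) (hc : IsCart m) :
    ∃ κ : (DCoh.Lpull f).obj B ⟶ A, IsIso κ ∧ m = (⟨f, κ⟩ : (⟨X, A⟩ : Tot dPull.{u}) ⟶ ⟨S, B⟩) := by
  obtain ⟨b, κ⟩ := m
  obtain rfl : b = f := hb
  exact ⟨κ, hc, rfl⟩

variable {X S : Scheme.{u}} (f : X ⟶ S)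

/-- The cartesian arrow `(X ×_S X, Lp₁^* K) ⟶ (X, K)`. -/
noncomputable abbrev theta (K : DCoh.D X) :
    (⟨pullback f f, (DCoh.Lpull (pullback.fst f f)).obj K⟩ : Tot dPull.{u}) ⟶ ⟨X, K⟩ :=
  cartLift (P := dPull.{u}) ⟨X, K⟩ (pullback.fst f f)

/-- Normalised traces. -/
def Nm {K : DCoh.D X} (ξ : (psi.push (pullback.diagonal f)).obj (OO X) ⟶ (DCoh.Lpull (pullback.fst f f)).obj K)
    (τ : (psi.push f).obj K ⟶ OO S) : Prop :=
  IsNorm psi sec f (pullback.snd f f) (pullback.diagonal f) (theta f K) ξ τ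

section Base

variable [QuasiCompact f] [QuasiSeparated f] [Flat f]

lemma bc_theta {K : DCoh.D X} (hK : DCoh.IsQCohD K) :
    BC (theta f K) f (pullback.snd f f) f :=
  bc_flat (IsPullback.of_hasPullback f f) (Or.inl inferInstance) hK _ rfl (isCart_cartLift _ _)

lemma exists_trMor₂ {K : DCoh.D X} (hK : DCoh.IsQCohD K) (τ : (psi.push f).obj K ⟶ OO S) :
    ∃ τ₂ : (psi.push (pullback.snd f f)).obj ((DCoh.Lpull (pullback.fst f f)).obj K) ⟶ OO X,
      TrMor psi f (pullback.snd f f) τ τ₂ (theta f K) (sec.u f) :=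
  exists_trMor τ (theta f K) (sec.u f) (by
    rw [sec.u_base]
    exact pullback.condition) (by
    rw [sec.u_base]
    exact bc_theta f hK)

/-- The base change of a universal trace is universal. -/
theorem isUniv₂_aux [CompactSpace S] [QuasiSeparatedSpace S] [IsProper f] [LocallyOfFinitePresentation f]
    {K : DCoh.D X} {τ : (DCoh.Rpush f).obj K ⟶ OO S} (h : IsUniv f (OO S) K τ)
    {τ₂ : (DCoh.Rpush (pullback.snd f f)).obj ((DCoh.Lpull (pullback.fst f f)).obj K) ⟶ OO X}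
    (sq : IsPullback (pullback.fst f f) (pullback.snd f f) f f)
    (κ : (DCoh.Lpull f).obj (OO S) ⟶ OO X) [IsIso κ]
    (h3 : (beta sq.w).app K ≫ τ₂ = (DCoh.Lpull f).map τ ≫ κ) :
    IsUniv (pullback.snd f f) (OO X) ((DCoh.Lpull (pullback.fst f f)).obj K) τ₂ := by
  have hX1 : CompactSpace X := QuasiCompact.compactSpace_of_compactSpace f
  have hX2 : QuasiSeparatedSpace X := quasiSeparatedSpace_of_quasiSeparated f
  have h1 : CompactSpace (pullback f f : Scheme.{u}) :=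
    QuasiCompact.compactSpace_of_compactSpace (pullback.fst f f)
  have h2 : QuasiSeparatedSpace (pullback f f : Scheme.{u}) :=
    quasiSeparatedSpace_of_quasiSeparated (pullback.fst f f)
  have hbc : ∀ E : DCoh.D X, DCoh.IsQCohD E → IsIso ((beta sq.w).app E) :=
    fun E hE => Dual.H307.BcGen.isIso_beta (Or.inl inferInstance) sq E hE
  have h4 := Dual.H307.Main.isUniv_bc sq (fun P hP => S1002.result f P hP) hbc (qcoh_OO S) h (τ₂ ≫ inv κ) (by
    rw [← Category.assoc, h3, Category.assoc, IsIso.hom_inv_id, Category.comp_id])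
  have h5 := h4.of_iso (Iso.refl _) (asIso κ) h4.qcoh
  simpa using h5

theorem isUniv₂ [CompactSpace S] [QuasiSeparatedSpace S] [IsProper f] [LocallyOfFinitePresentation f]
    {K : DCoh.D X} {τ : (psi.push f).obj K ⟶ OO S} (h : IsUniv f (OO S) K τ)
    {τ₂ : (psi.push (pullback.snd f f)).obj ((DCoh.Lpull (pullback.fst f f)).obj K) ⟶ OO X}
    (h₂ : TrMor psi f (pullback.snd f f) τ τ₂ (theta f K) (sec.u f)) :
    IsUniv (pullback.snd f f) (OO X) ((DCoh.Lpull (pullback.fst f f)).obj K) τ₂ := by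
  have sq : IsPullback (pullback.fst f f) (pullback.snd f f) f f := IsPullback.of_hasPullback f f
  obtain ⟨κ, hκ, e⟩ : ∃ κ : (DCoh.Lpull f).obj (OO S) ⟶ OO X, IsIso κ ∧
      sec.u f = (⟨f, κ⟩ : (⟨X, OO X⟩ : Tot dPull.{u}) ⟶ ⟨S, OO S⟩) :=
    exists_fib (sec.u f) (sec.u_base f) (sec.u_cart f)
  rw [e] at h₂
  exact isUniv₂_aux f h sq κ (beta_comp_of_trMor sq.w τ τ₂ κ h₂)

end Base

section Pair

variable [DCoh.HasLpull (pullback.fst f f)]
  [PreservesFiniteLimits (Scheme.Modules.pushforward (pullback.diagonal f))]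
  [PreservesFiniteColimits (Scheme.Modules.pushforward (pullback.diagonal f))]

/-- The rigidifying arrow in terms of `RΔ_*`. -/
noncomputable def xiR {K : DCoh.D X} (ξ : (Dual3.pushD (pullback.diagonal f)).obj (OO X) ⟶
    (DCoh.Lpull (pullback.fst f f)).obj K) :
    (DCoh.Rpush (pullback.diagonal f)).obj (OO X) ⟶ (DCoh.Lpull (pullback.fst f f)).obj K :=
  (Groth.Agent.PerfC.LpullFlat.rpushIso (pullback.diagonal f)).hom.app (OO X) ≫ ξ

lemma bijective_xiR_iff {K : DCoh.D X} (ξ : (Dual3.pushD (pullback.diagonal f)).obj (OO X) ⟶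
    (DCoh.Lpull (pullback.fst f f)).obj K) (N : DCoh.D X) :
    Function.Bijective (fun φ : N ⟶ OO X => (DCoh.Rpush (pullback.diagonal f)).map φ ≫ xiR f ξ) ↔
      Function.Bijective (fun φ : N ⟶ OO X => (Dual3.pushD (pullback.diagonal f)).map φ ≫ ξ) := by
  let e : DCoh.Rpush (pullback.diagonal f) ≅ Dual3.pushD (pullback.diagonal f) :=
    Groth.Agent.PerfC.LpullFlat.rpushIso (pullback.diagonal f)
  have h3 : Function.Bijective (fun g : (Dual3.pushD (pullback.diagonal f)).obj N ⟶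
      (DCoh.Lpull (pullback.fst f f)).obj K => e.hom.app N ≫ g) :=
    ((e.app N).symm.homFromEquiv (Z := (DCoh.Lpull (pullback.fst f f)).obj K)).bijective
  rw [← Function.Bijective.of_comp_iff' h3]
  refine iff_of_eq (congrArg _ ?_)
  funext φ
  exact e.hom.naturality_assoc φ ξ

variable [CompactSpace S] [QuasiSeparatedSpace S] [IsProper f] [Flat f] [LocallyOfFinitePresentation f]

/-- Existence, for the universal object. -/
theorem exists_pair₀ : ∃ (K : DCoh.D X) (ξ : (Dual3.pushD (pullback.diagonal f)).obj (OO X) ⟶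
    (DCoh.Lpull (pullback.fst f f)).obj K) (τ : (DCoh.Rpush f).obj K ⟶ OO S),
    Dual3.IsRelDualizingPair f K ξ ∧ IsUniv f (OO S) K τ ∧ Nm f (xiR f ξ) τ := by
  have hX1 : CompactSpace X := QuasiCompact.compactSpace_of_compactSpace f
  have hX2 : QuasiSeparatedSpace X := quasiSeparatedSpace_of_quasiSeparated f
  obtain ⟨K, τ, hτ⟩ := Groth.Agent.Ega1.ADualOpen.exists_univ f (OO S) (qcoh_OO S)
  obtain ⟨τ₂, hτ₂⟩ := exists_trMor₂ f hτ.qcoh τ
  have hu := isUniv₂ f hτ hτ₂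
  have hsec : pullback.diagonal f ≫ pullback.snd f f = 𝟙 X := pullback.diagonal_snd f
  obtain ⟨ξ', hξ'⟩ := exists_norm (P := dPull.{u}) (Ψ := psi) (σ := sec) (Δ := pullback.diagonal f)
    (p₂ := pullback.snd f f) hsec (τ₂ := τ₂) (hu.bij _ (S0998.result (pullback.diagonal f) _ (qcoh_OO X))).2
  let e : DCoh.Rpush (pullback.diagonal f) ≅ Dual3.pushD (pullback.diagonal f) :=
    Groth.Agent.PerfC.LpullFlat.rpushIso (pullback.diagonal f)
  let ξ : (Dual3.pushD (pullback.diagonal f)).obj (OO X) ⟶ (DCoh.Lpull (pullback.fst f f)).obj K :=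
    e.inv.app (OO X) ≫ ξ'
  have hξ : xiR f ξ = ξ' := e.hom_inv_id_app_assoc (OO X) ξ'
  obtain ⟨h1, h2⟩ := Dual.H354.P1.relPerfect f (Iso.refl (OO S)) ⟨τ, hτ⟩
  refine ⟨K, ξ, τ, ?_, hτ, ?_⟩
  · rw [Dual.H351.PairRestrict.isRelDualizingPair_iff]
    refine ⟨h1, h2, ?_⟩
    have hKc : (OO S).IsGE 0 := inferInstanceAs (((DerivedCategory.singleFunctor S.Modules 0).obj _).IsGE 0)
    obtain ⟨c, hc⟩ := LoccohB.AdStruct.exists_isGE f ⟨τ, hτ⟩ (qcoh_OO S) 0 hKc
    have hc2 : ((DCoh.Lpull (pullback.fst f f)).obj K).IsGE c := by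
      have h3 : ((PerfB.FlatPull.pullbackD (pullback.fst f f)).obj K).IsGE c :=
        PerfA.ExactD.isGE_map _ _ _
      exact (DerivedCategory.TStructure.t : Triangulated.TStructure _).isGE_of_iso
        ((PerfB.FlatPull.lpullIso (pullback.fst f f)).symm.app _) c
    have := S3630.result _ _ (pullback.diagonal f)
    intro M
    refine Dual.H355.ClosedAll.bijective_all (pullback.diagonal f)
      (fun m => Dual.H354.FlatClosed.pc_push_diagonal f m) c hc2 (S1054.result _ _ hτ.qcoh) (qcoh_OO X)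
      ξ (fun N hN => ?_) M
    rw [← bijective_xiR_iff, hξ]
    exact bijective_of_norm (P := dPull.{u}) (Ψ := psi) (σ := sec) (Δ := pullback.diagonal f)
      (p₂ := pullback.snd f f) hsec hξ' N (hu.bij _ (S0998.result (pullback.diagonal f) _ hN))
  · rw [hξ]
    exact ⟨τ₂, hτ₂, hξ'⟩

omit [CompactSpace S] [QuasiSeparatedSpace S] [IsProper f] in
/-- Endomorphisms compatible with the rigidifying arrow are the identity. -/
theorem eq_id_of_comp [IsSeparated f] {K : DCoh.D X} {ξ : (Dual3.pushD (pullback.diagonal f)).obj (OO X) ⟶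
    (DCoh.Lpull (pullback.fst f f)).obj K} (hK : Dual3.IsRelDualizingPair f K ξ) (φ : K ⟶ K)
    (h : ξ ≫ (DCoh.Lpull (pullback.fst f f)).map φ = ξ) : φ = 𝟙 K := by
  have hi : IsIso φ := by
    refine PerfB.BCGeom.isIso_of_cover φ fun x => ?_
    obtain ⟨R, A, hR, hA, hRA, j, hj, i, hi, hfl, hfp, hx, -, w⟩ :=
      Groth.Agent.Dual.H352.Chart.exists_chart f x ⊤ trivial
    obtain ⟨y, hy⟩ := hx
    refine ⟨_, j, hj, y, hy, ?_⟩
    have h1 := (Dual.H351.LocalUniq.chart hK ⟨ξ, hK⟩ j i w).1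
    have h2 : (PerfA.Restrict.restrictD j).map φ = 𝟙 _ := by
      apply h1.1
      dsimp only
      rw [← Dual.H351.PairRestrict.resPair_comp, h, CategoryTheory.Functor.map_id]
      exact (Category.comp_id _).symm
    rw [NatIso.isIso_map_iff (Groth.Agent.PerfB.LpullOpens.lpullRestrictD j) φ, h2]
    infer_instance
  obtain ⟨α, -, hα⟩ := Dual.H350.UChart.uprop f K K ξ ξ hK hK
  have h3 : asIso φ = Iso.refl K := (hα (asIso φ) h).trans (hα (Iso.refl K) (by
    dsimp only [Iso.refl_hom]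
    rw [CategoryTheory.Functor.map_id, Category.comp_id])).symm
  exact congrArg Iso.hom h3

/-- **Existence of a universal normalised trace.** -/
theorem exists_norm_univ {K : DCoh.D X} {ξ : (Dual3.pushD (pullback.diagonal f)).obj (OO X) ⟶
    (DCoh.Lpull (pullback.fst f f)).obj K} (hK : Dual3.IsRelDualizingPair f K ξ) :
    ∃ τ : (DCoh.Rpush f).obj K ⟶ OO S, IsUniv f (OO S) K τ ∧ Nm f (xiR f ξ) τ := by
  obtain ⟨K₀, ξ₀, τ₀, h0, hτ₀, hn⟩ := exists_pair₀ f
  obtain ⟨α, hα, -⟩ := Dual.H350.UChart.uprop f K₀ K ξ₀ ξ h0 hK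
  have hKq : DCoh.IsQCohD K := PerfA.QCohD.isQCohD_of_iso α hτ₀.qcoh
  refine ⟨(DCoh.Rpush f).map α.inv ≫ τ₀, ?_, ?_⟩
  · have := hτ₀.of_iso α (Iso.refl _) hKq
    simpa using this
  · refine IsNorm.of_iso (P := dPull.{u}) hn α ((DCoh.Lpull (pullback.fst f f)).mapIso α) ?_ ?_
    · exact ver_map_comp_cartLift dPull.{u} (pullback.fst f f) α.hom
    · rw [← hα]
      exact Category.assoc _ _ _

/-- **Uniqueness of normalised traces.** -/
theorem norm_unique {K : DCoh.D X} {ξ : (Dual3.pushD (pullback.diagonal f)).obj (OO X) ⟶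
    (DCoh.Lpull (pullback.fst f f)).obj K} (hK : Dual3.IsRelDualizingPair f K ξ)
    {τ τ' : (DCoh.Rpush f).obj K ⟶ OO S} (hu : IsUniv f (OO S) K τ) (hn : Nm f (xiR f ξ) τ)
    (hn' : Nm f (xiR f ξ) τ') : τ' = τ := by
  obtain ⟨φ, hφ⟩ := hu.exists_lift hu.qcoh τ'
  obtain ⟨τ₂, hτ₂⟩ := exists_trMor₂ f hu.qcoh τ
  have hu₂ := isUniv₂ f hu hτ₂
  have h1 : xiR f ξ ≫ (DCoh.Lpull (pullback.fst f f)).map φ = xiR f ξ :=
    comp_eq_self (P := dPull.{u}) hn hn' (bc_theta f hu.qcoh) φ hφ _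
      (ver_map_comp_cartLift dPull.{u} (pullback.fst f f) φ) hτ₂
      (hu₂.bij _ (S0998.result (pullback.diagonal f) _ (qcoh_OO X))).1
  have h2 : ξ ≫ (DCoh.Lpull (pullback.fst f f)).map φ = ξ := by
    unfold xiR at h1
    rw [Category.assoc] at h1
    exact (cancel_epi _).1 h1
  have h3 := eq_id_of_comp f hK φ h2
  rw [← hφ, h3, CategoryTheory.Functor.map_id, Category.id_comp]

end Pair

end Groth.Agent.K477.NormLoc
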