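import Groth.Agent.Dual3.K477.NormLoc
import Groth.Agent.Dual.H336.GlueTot

/-!
# Restriction of universal arrows `i_* N ⟶ F` and of relative dualizing pairs, in the total category
-/

set_option autoImplicit false

universe u

open CategoryTheory CategoryTheory.Limits AlgebraicGeometry

attribute [local instance] HasDerivedCategory.standard

namespace Groth.Agent.K477.NormRes

open Groth.Agent.PerfB.BCTot Groth.Agent.PerfB.BCTot.Tot Groth.Agent.PerfB.BCSch Groth.Agent.PerfB.BCShift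
  Groth.Agent.Dual.H346.Trace Groth.Agent.K477.NormTr Groth.Agent.K477.NormSch Groth.Agent.K477.NormLoc
  Groth.Agent.Dcoh.DerSch Groth.Agent.Ega1.ADualUniv Groth.Agent.Dual.H351.UnivArrow
  Groth.Agent.Dual.H336.GlueTot Groth.Agent.PerfC.Supp

attribute [local instance] hasLpull hasRpush

section Univ

variable {Z W Z' W' : Scheme.{u}} {i : Z ⟶ W} {i' : Z' ⟶ W'} {jZ : Z' ⟶ Z} {jW : W' ⟶ W}

lemma supp_push_subset [IsClosedImmersion i] (h : IsPullback jZ i' i jW) (M : DCoh.D Z)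
    (hM : ∀ n, supp M n ⊆ Set.range jZ) (n : ℤ) :
    supp ((psi.push i).obj M) n ⊆ Set.range jW := by
  have := Sga67.ClosedPush.preservesFiniteColimits_pushforward i
  have e : (psi.push i).obj M ≅ (Dual3.pushD i).obj M := (Groth.Agent.PerfC.LpullFlat.rpushIso i).app M
  have e' : DCoh.HD ((psi.push i).obj M) n ≅ DCoh.HD ((Dual3.pushD i).obj M) n :=
    (DerivedCategory.homologyFunctor _ n).mapIso e
  rw [supp, CohqB.DevSupport.support_congr e']
  exact supp_pushD_subset h M hM n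

/-- **Universal arrows restrict to opens.** -/
theorem univ_restrict [IsClosedImmersion i] [IsOpenImmersion jW] (sq : IsPullback jZ i' i jW)
    {N : DCoh.D Z} {F : DCoh.D W} {N' : DCoh.D Z'} {F' : DCoh.D W'}
    {ξ : (psi.push i).obj N ⟶ F} {ξ' : (psi.push i').obj N' ⟶ F'}
    {kN : (⟨Z', N'⟩ : Tot dPull.{u}) ⟶ ⟨Z, N⟩} {kF : (⟨W', F'⟩ : Tot dPull.{u}) ⟶ ⟨W, F⟩}
    (hkN : kN.base = jZ) (cN : IsCart kN) (hkF : kF.base = jW) (cF : IsCart kF)
    (h : TrMor psi i i' ξ ξ' kN kF)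
    (hu : ∀ M : DCoh.D Z, Function.Bijective (fun φ : M ⟶ N => (psi.push i).map φ ≫ ξ)) (M' : DCoh.D Z') :
    Function.Bijective (fun φ : M' ⟶ N' => (psi.push i').map φ ≫ ξ') := by
  have : IsOpenImmersion jZ := MorphismProperty.of_isPullback sq.flip inferInstance
  obtain ⟨s, hs, a, b⟩ := h
  obtain ⟨M, c, hM, hc, cc⟩ := exists_shriek (j := jZ) M'
  obtain ⟨sM, hsM, aM⟩ := exists_desc psi i i' c jW (by rw [hc, sq.w])
  have hsMc : IsCart sM := (bc_open sq c hc cc) _ _ (arr psi i M) (arr psi i' M') sM rfl rfl hsM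
    (isCocart_arr _ _ _) (isCocart_arr _ _ _) aM
  have hsupp := supp_push_subset sq M hM
  have key : ∀ (φ : M' ⟶ N') (Φ : M ⟶ N) (_ : kN ≫ ver Φ = ver φ ≫ c),
      kF ≫ ver ((psi.push i).map Φ ≫ ξ) = ver ((psi.push i').map φ ≫ ξ') ≫ sM := by
    intro φ Φ e
    have e1 : s ≫ ver ((psi.push i).map Φ) = ver ((psi.push i').map φ) ≫ sM := by
      refine (isCocart_arr psi i' N').uniq ?_ ?_
      · rw [comp_base, comp_base, hs, hkF, hsM, ver_base, ver_base, Category.id_comp]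
        exact Category.comp_id _
      · rw [reassoc_of% a, ← ver_comp_arr, reassoc_of% e, ← aM, ← Category.assoc, ver_comp_arr,
          Category.assoc]
    rw [← ver_comp_ver, ← ver_comp_ver, ← reassoc_of% b, e1, Category.assoc]
  constructor
  · intro φ₁ φ₂ e
    have hex : ∀ φ : M' ⟶ N', ∃ Φ : M ⟶ N, kN ≫ ver Φ = ver φ ≫ c := fun φ =>
      exists_hom hM (ver φ ≫ c) kN (by rw [comp_base, ver_base, hc]; exact Category.id_comp _) hkN cN
    obtain ⟨Φ₁, h₁⟩ := hex φ₁
    obtain ⟨Φ₂, h₂⟩ := hex φ₂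
    have e1 : (psi.push i).map Φ₁ ≫ ξ = (psi.push i).map Φ₂ ≫ ξ := by
      refine hom_uniq hsupp kF hkF cF ?_
      rw [key φ₁ Φ₁ h₁, key φ₂ Φ₂ h₂]
      exact congrArg (fun x => ver x ≫ sM) e
    have e2 : Φ₁ = Φ₂ := (hu M).1 e1
    subst e2
    exact ver_injective (P := dPull.{u}) (cc.uniq rfl (h₁.symm.trans h₂))
  · intro y
    obtain ⟨Y, hY⟩ := exists_hom hsupp (ver y ≫ sM) kF (by
      rw [comp_base, ver_base, hsM]; exact Category.id_comp _) hkF cF
    obtain ⟨Φ, rfl⟩ := (hu M).2 Y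
    obtain ⟨k, hk, hk'⟩ := cc.lift (kN ≫ ver Φ) (𝟙 Z') (by
      rw [comp_base, hkN, ver_base, hc]
      simp)
    obtain ⟨φ, rfl⟩ := exists_ver k hk
    refine ⟨φ, ver_injective (P := dPull.{u}) (hsMc.uniq rfl ?_)⟩
    rw [← hY]
    exact (key φ Φ hk'.symm).symm

end Univ

section Pair

open Groth.Agent.Dual.H351.PairRestrict

variable {X S X' S' : Scheme.{u}} {f : X ⟶ S} {f' : X' ⟶ S'} {jX : X' ⟶ X} {j : S' ⟶ S}
  [IsOpenImmersion jX] [IsOpenImmersion j]

/-- The cartesian arrow of the restriction. -/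
noncomputable def kR (jX : X' ⟶ X) [IsOpenImmersion jX] (K : DCoh.D X) :
    (⟨X', (PerfA.Restrict.restrictD jX).obj K⟩ : Tot dPull.{u}) ⟶ ⟨X, K⟩ := ⟨jX, (eR jX).hom.app K⟩

@[simp] lemma kR_base (K : DCoh.D X) : (kR jX K).base = jX := rfl

lemma isCart_kR (K : DCoh.D X) : IsCart (kR jX K) := by
  unfold IsCart kR
  dsimp only
  infer_instance

/-- **Relative dualizing pairs restrict**, in the total category. -/
theorem exists_res (w : jX ≫ f = f' ≫ j) [IsSeparated f] [IsSeparated f']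
    [PreservesFiniteLimits (Scheme.Modules.pushforward (pullback.diagonal f))]
    [PreservesFiniteColimits (Scheme.Modules.pushforward (pullback.diagonal f))]
    [PreservesFiniteLimits (Scheme.Modules.pushforward (pullback.diagonal f'))]
    [PreservesFiniteColimits (Scheme.Modules.pushforward (pullback.diagonal f'))]
    {K : DCoh.D X} {ξ : (Dual3.pushD (pullback.diagonal f)).obj (OO X) ⟶
      (DCoh.Lpull (pullback.fst f f)).obj K} (hK : Dual3.IsRelDualizingPair f K ξ) :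
    ∃ (ξ' : (Dual3.pushD (pullback.diagonal f')).obj (OO X') ⟶
        (DCoh.Lpull (pullback.fst f' f')).obj ((PerfA.Restrict.restrictD jX).obj K))
      (kM : (⟨pullback f' f', (DCoh.Lpull (pullback.fst f' f')).obj ((PerfA.Restrict.restrictD jX).obj K)⟩ :
        Tot dPull.{u}) ⟶ ⟨pullback f f, (DCoh.Lpull (pullback.fst f f)).obj K⟩),
      kM.base = prodMap w ∧ IsCart kM ∧ theta f' ((PerfA.Restrict.restrictD jX).obj K) ≫ kR jX K =
        kM ≫ theta f K ∧
      TrMor psi (pullback.diagonal f) (pullback.diagonal f') (xiR f ξ) (xiR f' ξ') (sec.u jX) kM ∧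
      Dual3.IsRelDualizingPair f' ((PerfA.Restrict.restrictD jX).obj K) ξ' := by
  let K' := (PerfA.Restrict.restrictD jX).obj K
  obtain ⟨kM, hkM, e⟩ := (isCart_cartLift (P := dPull.{u}) ⟨X, K⟩ (pullback.fst f f)).lift
    (theta f' K' ≫ kR jX K) (prodMap w) (by
      rw [comp_base, kR_base]
      exact prodMap_fst w)
  have cM : IsCart kM := by
    refine (isCart_comp_iff (isCart_cartLift (P := dPull.{u}) ⟨X, K⟩ (pullback.fst f f))).1 ?_
    rw [e]
    exact (isCart_cartLift _ _).comp (isCart_kR K)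
  have sq := isPullback_diagonal w
  have bΔ : BC (sec.u jX) (pullback.diagonal f) (pullback.diagonal f') kM.base := by
    rw [hkM]
    exact bc_open sq _ (sec.u_base jX) (sec.u_cart jX)
  obtain ⟨ξ₁, hξ₁⟩ := exists_trMor (Ψ := psi) (P := dPull.{u}) (f := pullback.diagonal f)
    (f' := pullback.diagonal f') (xiR f ξ) (sec.u jX) kM (by
      rw [sec.u_base, hkM]
      exact sq.w) bΔ
  let e' : DCoh.Rpush (pullback.diagonal f') ≅ Dual3.pushD (pullback.diagonal f') :=
    Groth.Agent.PerfC.LpullFlat.rpushIso (pullback.diagonal f')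
  let ξ' : (Dual3.pushD (pullback.diagonal f')).obj (OO X') ⟶ (DCoh.Lpull (pullback.fst f' f')).obj K' :=
    e'.inv.app (OO X') ≫ ξ₁
  have hξ' : xiR f' ξ' = ξ₁ := e'.hom_inv_id_app_assoc (OO X') ξ₁
  have hp := (isRelDualizingPair_iff ξ).1 hK
  refine ⟨ξ', kM, hkM, cM, e.symm, by rw [hξ']; exact hξ₁, ?_⟩
  have h0 := isRelDualizingPair_restrict (f := f) (f' := f') (j := jX) (l := j) w hK
  rw [isRelDualizingPair_iff] at h0 ⊢
  refine ⟨h0.1, h0.2.1, fun N => ?_⟩
  rw [← bijective_xiR_iff, hξ']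
  exact univ_restrict sq (sec.u_base jX) (sec.u_cart jX) hkM cM hξ₁
    (fun M => (bijective_xiR_iff f ξ M).2 (hp.2.2 M)) N

end Pair

end Groth.Agent.K477.NormRes
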