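import Groth.Agent.Dual3.K477.NormTr
import Groth.Agent.Dual.H307.BcGen
import Groth.Agent.Dual.H339.Core
import Groth.Agent.PerfB.BCGeom

/-!
# Trace data for schemes

* `psi`: the direct images `Rf_*` as `PushData` for the pseudofunctor `X ↦ D(O_X)`;
* `sec`: the structure sheaves as a cartesian section;
* `beta_arr`: the base change transformation `beta` in the total category;
* `bc_open`, `bc_flat`: base change for arbitrary cartesian arrows;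
* `isUniv_of_trMor`: base change of universal pairs along `g`, for trace data.
-/

set_option autoImplicit false

universe u

open CategoryTheory CategoryTheory.Limits AlgebraicGeometry

attribute [local instance] HasDerivedCategory.standard

namespace Groth.Agent.K477.NormSch

open Groth.Agent.PerfB.BCTot Groth.Agent.PerfB.BCTot.Tot Groth.Agent.PerfB.BCSch Groth.Agent.PerfB.BCShift
  Groth.Agent.Dual.H346.Trace Groth.Agent.K477.NormTr Groth.Agent.Dual.H307.MonSquare Groth.Agent.Dual.H307.MonNat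
  Groth.Agent.Dcoh.BCCanon300 Groth.Agent.Dcoh.DerSch Groth.Agent.Dual.H306 Groth.Agent.Ega1.ADualUniv

attribute [local instance] hasLpull hasRpush

section Abs

universe v₁ u₁ v₂ u₂

variable {𝒮 : Type u₁} [Category.{v₁} 𝒮] {D : 𝒮 → Type u₂} [∀ X, Category.{v₂} (D X)]
  (P : PullData D)

/-- The mate in the total category. -/
theorem mate_arr (Ψ : PushData P) {X S X' S' : 𝒮} {f : X ⟶ S} {g : S' ⟶ S} {g' : X' ⟶ X} {f' : X' ⟶ S'}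
    (w : g' ≫ f = f' ≫ g) (L : D X) :
    arr Ψ f' ((P.pull g').obj L) ≫
      (⟨g, (mate (Ψ.adj f) (Ψ.adj f') (cIso P w).hom).app L⟩ : (⟨S', (Ψ.push f').obj ((P.pull g').obj L)⟩ : Tot P) ⟶
        ⟨S, (Ψ.push f).obj L⟩) = cartLift (P := P) ⟨X, L⟩ g' ≫ arr Ψ f L := by
  refine hom_ext w.symm ?_
  have h1 := map_mate_app_counit (Ψ.adj f) (Ψ.adj f') (cIso P w).hom L
  rw [cIso_hom_app] at h1
  rw [comp_fib, comp_fib]
  dsimp only [cocartLift, cartLift, arr]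
  rw [h1]
  simp

/-- Trace data over a square, in terms of the mate. -/
theorem mate_comp_of_trMor (Ψ : PushData P) {X S X' S' : 𝒮} {f : X ⟶ S} {g : S' ⟶ S} {g' : X' ⟶ X} {f' : X' ⟶ S'}
    (w : g' ≫ f = f' ≫ g) {K : D S} {L : D X} {τ : (Ψ.push f).obj L ⟶ K} {K' : D S'}
    {τ' : (Ψ.push f').obj ((P.pull g').obj L) ⟶ K'} {κ : (P.pull g).obj K ⟶ K'}
    (h : TrMor Ψ f f' τ τ' (cartLift (P := P) ⟨X, L⟩ g') ⟨g, κ⟩) :
    (mate (Ψ.adj f) (Ψ.adj f') (cIso P w).hom).app L ≫ τ' = (P.pull g).map τ ≫ κ := by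
  obtain ⟨s, hs, a, b⟩ := h
  have h1 : s = ⟨g, (mate (Ψ.adj f) (Ψ.adj f') (cIso P w).hom).app L⟩ :=
    (isCocart_arr Ψ f' _).uniq hs (a.trans (mate_arr P Ψ w L).symm)
  subst h1
  have h2 := ver_comp' (P := P) τ' (B := ⟨S, (Ψ.push f).obj L⟩) g
    ((mate (Ψ.adj f) (Ψ.adj f') (cIso P w).hom).app L)
  have h3 := comp_ver' (P := P) (A := ⟨S', K'⟩) τ g κ
  rw [h2, h3] at b
  have h4 := fib_eq b
  rw [eqToHom_refl, Category.id_comp] at h4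
  exact h4

/-- The same, with explicit names for the functors. -/
theorem mate_comp_of_trMor' (Ψ : PushData P) {X S X' S' : 𝒮} {f : X ⟶ S} {g : S' ⟶ S} {g' : X' ⟶ X} {f' : X' ⟶ S'}
    (w : g' ≫ f = f' ≫ g) {Rf : D X ⥤ D S} {Rf' : D X' ⥤ D S'}
    {Lf : D S ⥤ D X} {Lf' : D S' ⥤ D X'} {Lg : D S ⥤ D S'} {Lg' : D X ⥤ D X'}
    (hf : P.pull f = Lf) (hf' : P.pull f' = Lf') (hg : P.pull g = Lg) (hg' : P.pull g' = Lg')
    (hR : Ψ.push f = Rf) (hR' : Ψ.push f' = Rf') (adjf : Lf ⊣ Rf) (adjf' : Lf' ⊣ Rf')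
    (ha : Ψ.adj f ≍ adjf) (ha' : Ψ.adj f' ≍ adjf') (c : Lg ⋙ Lf' ≅ Lf ⋙ Lg') (hc : c ≍ cIso P w)
    {K : D S} {L : D X} {τ : (Ψ.push f).obj L ⟶ K} {K' : D S'}
    {τ' : (Ψ.push f').obj ((P.pull g').obj L) ⟶ K'} {κ : (P.pull g).obj K ⟶ K'}
    (h : TrMor Ψ f f' τ τ' (cartLift (P := P) ⟨X, L⟩ g') ⟨g, κ⟩)
    {τ₁ : Rf.obj L ⟶ K} {τ₁' : Rf'.obj (Lg'.obj L) ⟶ K'} {κ₁ : Lg.obj K ⟶ K'}
    (hτ : τ ≍ τ₁) (hτ' : τ' ≍ τ₁') (hκ : κ ≍ κ₁) :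
    (mate adjf adjf' c.hom).app L ≫ τ₁' = Lg.map τ₁ ≫ κ₁ := by
  subst hf hf' hg hg' hR hR'
  obtain rfl := eq_of_heq hc
  obtain rfl := eq_of_heq ha
  obtain rfl := eq_of_heq ha'
  obtain rfl := eq_of_heq hτ
  obtain rfl := eq_of_heq hτ'
  obtain rfl := eq_of_heq hκ
  exact mate_comp_of_trMor P Ψ w h

end Abs

/-- The same over schemes. -/
theorem mate_comp_of_trMor_sch (P : PullData (fun X : Scheme.{u} => DCoh.D X)) (Ψ : PushData P) {X S X' S' : Scheme.{u}} {f : X ⟶ S} {g : S' ⟶ S} {g' : X' ⟶ X} {f' : X' ⟶ S'}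
    (w : g' ≫ f = f' ≫ g) {Rf : DCoh.D X ⥤ DCoh.D S} {Rf' : DCoh.D X' ⥤ DCoh.D S'}
    {Lf : DCoh.D S ⥤ DCoh.D X} {Lf' : DCoh.D S' ⥤ DCoh.D X'} {Lg : DCoh.D S ⥤ DCoh.D S'} {Lg' : DCoh.D X ⥤ DCoh.D X'}
    (hf : P.pull f = Lf) (hf' : P.pull f' = Lf') (hg : P.pull g = Lg) (hg' : P.pull g' = Lg')
    (hR : Ψ.push f = Rf) (hR' : Ψ.push f' = Rf') (adjf : Lf ⊣ Rf) (adjf' : Lf' ⊣ Rf')
    (ha : Ψ.adj f ≍ adjf) (ha' : Ψ.adj f' ≍ adjf') (c : Lg ⋙ Lf' ≅ Lf ⋙ Lg') (hc : c ≍ cIso P w)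
    {K : DCoh.D S} {L : DCoh.D X} {τ : (Ψ.push f).obj L ⟶ K} {K' : DCoh.D S'}
    {τ' : (Ψ.push f').obj ((P.pull g').obj L) ⟶ K'} {κ : (P.pull g).obj K ⟶ K'}
    (h : TrMor Ψ f f' τ τ' (cartLift (P := P) ⟨X, L⟩ g') ⟨g, κ⟩)
    {τ₁ : Rf.obj L ⟶ K} {τ₁' : Rf'.obj (Lg'.obj L) ⟶ K'} {κ₁ : Lg.obj K ⟶ K'}
    (hτ : τ ≍ τ₁) (hτ' : τ' ≍ τ₁') (hκ : κ ≍ κ₁) :
    (mate adjf adjf' c.hom).app L ≫ τ₁' = Lg.map τ₁ ≫ κ₁ :=
  mate_comp_of_trMor' P Ψ w hf hf' hg hg' hR hR' adjf adjf' ha ha' c hc h hτ hτ' hκ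



lemma pull_eq' {X Y : Scheme.{u}} (f : X ⟶ Y) : (dPull.{u}).pull f = DCoh.Lpull f := rfl

/-- The direct images. -/
noncomputable def psi : PushData dPull.{u} where
  push f := DCoh.Rpush f
  adj f := lAdj f

/-- The structure sheaf. -/
noncomputable abbrev OO (X : Scheme.{u}) : DCoh.D X := DCoh.inD X (Coh.structureModule X)

lemma exists_cart (X : Scheme.{u}) : ∃ e : (⟨X, OO X⟩ : Tot dPull.{u}) ⟶ ⟨⊤_ Scheme.{u}, OO _⟩,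
    e.base = terminal.from X ∧ IsCart e := by
  obtain ⟨i⟩ := Groth.Agent.Dual.H339.Core.nonempty_lpull_unit (terminal.from X) (K := OO _) ⟨Iso.refl _⟩
  exact ⟨⟨terminal.from X, i.hom⟩, rfl, inferInstanceAs (IsIso i.hom)⟩

/-- A cartesian arrow to the final scheme. -/
noncomputable def eC (X : Scheme.{u}) : (⟨X, OO X⟩ : Tot dPull.{u}) ⟶ ⟨⊤_ Scheme.{u}, OO _⟩ :=
  (exists_cart X).choose

lemma eC_cart (X : Scheme.{u}) : IsCart (eC X) := (exists_cart X).choose_spec.2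

lemma exists_u {X Y : Scheme.{u}} (f : X ⟶ Y) : ∃ k : (⟨X, OO X⟩ : Tot dPull.{u}) ⟶ ⟨Y, OO Y⟩,
    k.base = f ∧ k ≫ eC Y = eC X :=
  (eC_cart Y).lift (eC X) f (Subsingleton.elim _ _)

/-- The structure sheaves form a cartesian section. -/
noncomputable def sec : Sec dPull.{u} where
  O := OO
  u f := (exists_u f).choose
  u_base f := (exists_u f).choose_spec.1
  u_cart {X Y} f := by
    have h := eC_cart X
    rw [← (exists_u f).choose_spec.2] at h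
    exact (isCart_comp_iff (eC_cart _)).1 h
  u_comp f g := by
    refine (eC_cart _).uniq ?_ ?_
    · rw [comp_base, (exists_u f).choose_spec.1, (exists_u g).choose_spec.1, (exists_u (f ≫ g)).choose_spec.1]
    · rw [Category.assoc, (exists_u g).choose_spec.2, (exists_u f).choose_spec.2,
        (exists_u (f ≫ g)).choose_spec.2]

section BC

variable {X Y X' Y' : Scheme.{u}} {f : X ⟶ Y} {g : Y' ⟶ Y} {g' : X' ⟶ X} {f' : X' ⟶ Y'}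

/-- Base change for arbitrary cartesian arrows. -/
lemma bc_of_lift {K : DCoh.D X} {K' : DCoh.D X'} (θ : (⟨X', K'⟩ : Tot dPull.{u}) ⟶ ⟨X, K⟩)
    (hθ : θ.base = g') (hc : IsCart θ) (h : BC (cartLift (P := dPull.{u}) ⟨X, K⟩ g') f f' g) :
    BC θ f f' g :=
  Groth.Agent.PerfB.BCGeom.BC_of_cart (Iso.refl K) (cartLift (P := dPull.{u}) ⟨X, K⟩ g') θ
    (isCart_cartLift _ _) hc hθ.symm h

lemma bc_open (h : IsPullback g' f' f g) [IsOpenImmersion g] {K : DCoh.D X} {K' : DCoh.D X'}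
    (θ : (⟨X', K'⟩ : Tot dPull.{u}) ⟶ ⟨X, K⟩) (hθ : θ.base = g') (hc : IsCart θ) : BC θ f f' g :=
  bc_of_lift θ hθ hc (Groth.Agent.PerfB.BCGeom.bc_openD h K)

lemma bc_flat (h : IsPullback g' f' f g) [QuasiCompact f] [QuasiSeparated f] (hfl : Flat f ∨ Flat g)
    {K : DCoh.D X} (hK : DCoh.IsQCohD K) {K' : DCoh.D X'}
    (θ : (⟨X', K'⟩ : Tot dPull.{u}) ⟶ ⟨X, K⟩) (hθ : θ.base = g') (hc : IsCart θ) : BC θ f f' g :=
  bc_of_lift θ hθ hc (BCLeft.bc_tor hfl h K hK)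

/-- Auxiliary. -/
lemma mate_comp_aux (w : g' ≫ f = f' ≫ g) {K : DCoh.D Y} {L : DCoh.D X} (τ : (psi.push f).obj L ⟶ K)
    {K' : DCoh.D Y'} (τ' : (psi.push f').obj ((dPull.{u}.pull g').obj L) ⟶ K')
    (κ : (dPull.{u}.pull g).obj K ⟶ K')
    (h : TrMor psi f f' τ τ' (cartLift (P := dPull.{u}) ⟨X, L⟩ g') ⟨g, κ⟩) (τ₁ : (DCoh.Rpush f).obj L ⟶ K)
    (τ₁' : (DCoh.Rpush f').obj ((DCoh.Lpull g').obj L) ⟶ K')
    (κ₁ : (DCoh.Lpull g).obj K ⟶ K') (hτ : τ ≍ τ₁) (hτ' : τ' ≍ τ₁') (hκ : κ ≍ κ₁) (h1 : psi.push f = DCoh.Rpush f) (h1' : psi.push f' = DCoh.Rpush f')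
    (h2 : psi.adj f ≍ lAdj f) (h2' : psi.adj f' ≍ lAdj f') (h3 : BCPushQ.cD w ≍ cIso dPull.{u} w) :
    (mate (lAdj f) (lAdj f') (BCPushQ.cD w).hom).app L ≫ τ₁' = (DCoh.Lpull g).map τ₁ ≫ κ₁ :=
  mate_comp_of_trMor_sch dPull.{u} psi w (pull_eq' f) (pull_eq' f') (pull_eq' g) (pull_eq' g') h1 h1'
    (lAdj f) (lAdj f') h2 h2' (BCPushQ.cD w) h3 h hτ hτ' hκ

/-- Auxiliary. -/
lemma mate_comp_aux' (w : g' ≫ f = f' ≫ g) {K : DCoh.D Y} {L : DCoh.D X} (τ : (DCoh.Rpush f).obj L ⟶ K)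
    {K' : DCoh.D Y'} (τ' : (DCoh.Rpush f').obj ((DCoh.Lpull g').obj L) ⟶ K')
    (κ : (DCoh.Lpull g).obj K ⟶ K')
    (h : TrMor psi f f' τ τ' (cartLift (P := dPull.{u}) ⟨X, L⟩ g') ⟨g, κ⟩) :
    (mate (lAdj f) (lAdj f') (BCPushQ.cD w).hom).app L ≫ τ' = (DCoh.Lpull g).map τ ≫ κ :=
  mate_comp_aux w τ τ' κ h τ τ' κ HEq.rfl HEq.rfl HEq.rfl rfl rfl HEq.rfl HEq.rfl (BCPushQ.cD_heq w)

/-- Trace data over a square, in terms of `beta`. -/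
lemma beta_comp_of_trMor (w : g' ≫ f = f' ≫ g) {K : DCoh.D Y} {L : DCoh.D X} (τ : (DCoh.Rpush f).obj L ⟶ K)
    {K' : DCoh.D Y'} (τ' : (DCoh.Rpush f').obj ((DCoh.Lpull g').obj L) ⟶ K')
    (κ : (DCoh.Lpull g).obj K ⟶ K')
    (h : TrMor psi f f' τ τ' (cartLift (P := dPull.{u}) ⟨X, L⟩ g') ⟨g, κ⟩) :
    (beta w).app L ≫ τ' = (DCoh.Lpull g).map τ ≫ κ :=
  mate_comp_aux' w τ τ' κ h 

end BC

end Groth.Agent.K477.NormSch
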