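import Groth.Agent.Dual.H346.Trace

/-!
# Normalised traces, in the total category of a contravariant pseudofunctor

`f : X ⟶ S`, `p₁ p₂ : Q ⟶ X` (the square `X ×_S X`), `Δ : X ⟶ Q` a section of `p₂`, `O` a cartesian section ("the
structure sheaf"), `θ : (Q, M) ⟶ (X, K)` over `p₁` ("`M = p₁^* K`"), `ξ : Δ_* O ⟶ M`.  A trace `τ : f_* K ⟶ O` is
normalised (`IsNorm`) if its base change `τ₂ : p₂_* M ⟶ O` satisfies `p₂_* ξ ≫ τ₂ = (p₂_* Δ_* O = O)`.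

* `IsNorm.restrict`: normalised traces restrict;
* `comp_eq_self`: comparison of two normalised traces;
* `IsNorm.of_iso`: transport along isomorphisms;
* `bijective_of_norm`: if `τ₂` is universal then so is `ξ`.
-/

set_option autoImplicit false

universe v₁ u₁ v₂ u₂

open CategoryTheory

namespace Groth.Agent.K477.NormTr

open Groth.Agent.PerfB.BCTot Groth.Agent.PerfB.BCTot.Tot Groth.Agent.Dual.H346.Trace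

variable {𝒮 : Type u₁} [Category.{v₁} 𝒮] {D : 𝒮 → Type u₂} [∀ X, Category.{v₂} (D X)]

/-- A cartesian section. -/
structure Sec (P : PullData D) where
  /-- the objects -/
  O (X : 𝒮) : D X
  /-- the arrows -/
  u {X Y : 𝒮} (f : X ⟶ Y) : (⟨X, O X⟩ : Tot P) ⟶ ⟨Y, O Y⟩
  u_base {X Y : 𝒮} (f : X ⟶ Y) : (u f).base = f
  u_cart {X Y : 𝒮} (f : X ⟶ Y) : IsCart (u f)
  u_comp {X Y Z : 𝒮} (f : X ⟶ Y) (g : Y ⟶ Z) : u f ≫ u g = u (f ≫ g)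

variable {P : PullData D} (Ψ : PushData P) (σ : Sec P)

section W

variable {Ψ}
variable {X Q : 𝒮} (Δ : X ⟶ Q) (p₂ : Q ⟶ X) (h₂ : Δ ≫ p₂ = 𝟙 X)

include h₂ in
variable (Ψ) in
lemma exists_w (N : D X) : ∃ w : (Ψ.push p₂).obj ((Ψ.push Δ).obj N) ⟶ N,
    (ver w : (⟨X, N⟩ : Tot P) ⟶ ⟨X, (Ψ.push p₂).obj ((Ψ.push Δ).obj N)⟩) =
      arr Ψ Δ N ≫ arr Ψ p₂ ((Ψ.push Δ).obj N) :=
  exists_ver _ (by rw [comp_base, arr_base, arr_base, h₂])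

lemma isIso_w {N : D X} (w : (Ψ.push p₂).obj ((Ψ.push Δ).obj N) ⟶ N)
    (hw : (ver w : (⟨X, N⟩ : Tot P) ⟶ ⟨X, (Ψ.push p₂).obj ((Ψ.push Δ).obj N)⟩) =
      arr Ψ Δ N ≫ arr Ψ p₂ ((Ψ.push Δ).obj N)) : IsIso w := by
  have h1 : IsCocart (ver w : (⟨X, N⟩ : Tot P) ⟶ ⟨X, (Ψ.push p₂).obj ((Ψ.push Δ).obj N)⟩) := by
    rw [hw]
    exact (isCocart_arr _ _ _).comp (isCocart_arr _ _ _)
  have h2 : IsCocart (𝟙 (⟨X, N⟩ : Tot P)) := isCocart_of_isIso _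
  obtain ⟨i, hi⟩ := h2.exists_iso (m₁ := (ver w : (⟨X, N⟩ : Tot P) ⟶ _)) h1 rfl
  have h3 : w = i.hom := ver_injective (P := P) (by rw [← hi, Category.id_comp])
  rw [h3]
  infer_instance

lemma w_naturality {N N' : D X} (φ : N ⟶ N') (w : (Ψ.push p₂).obj ((Ψ.push Δ).obj N) ⟶ N)
    (hw : (ver w : (⟨X, N⟩ : Tot P) ⟶ ⟨X, (Ψ.push p₂).obj ((Ψ.push Δ).obj N)⟩) =
      arr Ψ Δ N ≫ arr Ψ p₂ ((Ψ.push Δ).obj N))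
    (w' : (Ψ.push p₂).obj ((Ψ.push Δ).obj N') ⟶ N')
    (hw' : (ver w' : (⟨X, N'⟩ : Tot P) ⟶ ⟨X, (Ψ.push p₂).obj ((Ψ.push Δ).obj N')⟩) =
      arr Ψ Δ N' ≫ arr Ψ p₂ ((Ψ.push Δ).obj N')) :
    (Ψ.push p₂).map ((Ψ.push Δ).map φ) ≫ w' = w ≫ φ := by
  refine ver_injective (P := P) ?_
  rw [← ver_comp_ver, ← ver_comp_ver, hw, hw', Category.assoc, ← ver_comp_arr, ← reassoc_of% (ver_comp_arr Ψ Δ φ)]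

end W

section Norm

variable {X S Q : 𝒮} (f : X ⟶ S) (p₂ : Q ⟶ X) (Δ : X ⟶ Q)

/-- Normalised traces. -/
def IsNorm {K : D X} {M : D Q} (θ : (⟨Q, M⟩ : Tot P) ⟶ ⟨X, K⟩) (ξ : (Ψ.push Δ).obj (σ.O X) ⟶ M)
    (τ : (Ψ.push f).obj K ⟶ σ.O S) : Prop :=
  ∃ τ₂ : (Ψ.push p₂).obj M ⟶ σ.O X, TrMor Ψ f p₂ τ τ₂ θ (σ.u f) ∧
    (ver ((Ψ.push p₂).map ξ ≫ τ₂) : (⟨X, σ.O X⟩ : Tot P) ⟶ _) =
      arr Ψ Δ (σ.O X) ≫ arr Ψ p₂ ((Ψ.push Δ).obj (σ.O X))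

variable {Ψ σ f p₂ Δ} {K : D X} {M : D Q} {θ : (⟨Q, M⟩ : Tot P) ⟶ ⟨X, K⟩}
  {ξ : (Ψ.push Δ).obj (σ.O X) ⟶ M} {τ : (Ψ.push f).obj K ⟶ σ.O S}

/-- **Normalised traces restrict.** -/
theorem IsNorm.restrict (h : IsNorm Ψ σ f p₂ Δ θ ξ τ) {X' S' Q' : 𝒮} {f' : X' ⟶ S'} {p₂' : Q' ⟶ X'}
    {Δ' : X' ⟶ Q'} {j : S' ⟶ S} {jX : X' ⟶ X} {jQ : Q' ⟶ Q}
    (wf : jX ≫ f = f' ≫ j) (w₂ : jQ ≫ p₂ = p₂' ≫ jX) (h₂' : Δ' ≫ p₂' = 𝟙 X')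
    {K' : D X'} {M' : D Q'} {θ' : (⟨Q', M'⟩ : Tot P) ⟶ ⟨X', K'⟩}
    {kK : (⟨X', K'⟩ : Tot P) ⟶ ⟨X, K⟩} {kM : (⟨Q', M'⟩ : Tot P) ⟶ ⟨Q, M⟩} (hkM : kM.base = jQ)
    (e : θ' ≫ kK = kM ≫ θ)
    {ξ' : (Ψ.push Δ').obj (σ.O X') ⟶ M'} (hξ : TrMor Ψ Δ Δ' ξ ξ' (σ.u jX) kM)
    {τ' : (Ψ.push f').obj K' ⟶ σ.O S'} (hτ : TrMor Ψ f f' τ τ' kK (σ.u j))
    {τ₂' : (Ψ.push p₂').obj M' ⟶ σ.O X'} (hτ₂' : TrMor Ψ f' p₂' τ' τ₂' θ' (σ.u f'))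
    (bθ : BC θ f p₂ f) (bΔ : BC (σ.u jX) Δ Δ' jQ)
    (b₂ : ∀ (N : D Q) (N' : D Q') (s : (⟨Q', N'⟩ : Tot P) ⟶ ⟨Q, N⟩), s.base = jQ → IsCart s →
      BC s p₂ p₂' jX) :
    IsNorm Ψ σ f' p₂' Δ' θ' ξ' τ' := by
  obtain ⟨τ₂, hτ₂, hn⟩ := h
  refine ⟨τ₂', hτ₂', ?_⟩
  -- the comparison of `τ₂` and `τ₂'`
  have h1 : TrMor Ψ p₂ p₂' τ₂ τ₂' kM (σ.u jX) := by
    have h2 := hτ₂'.comp hτ
    rw [e, σ.u_comp, ← wf, ← σ.u_comp] at h2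
    exact hτ₂.cancel h2 (by rw [σ.u_base]; exact bθ) (by rw [hkM, w₂, σ.u_base])
  obtain ⟨s₂, hs₂, a₂, c₂⟩ := h1
  obtain ⟨sΔ, hsΔ, aΔ, cΔ⟩ := hξ
  have hsΔc : IsCart sΔ := bΔ _ _ (arr Ψ Δ (σ.O X)) (arr Ψ Δ' (σ.O X')) sΔ rfl rfl
    (hsΔ.trans hkM) (isCocart_arr _ _ _) (isCocart_arr _ _ _) aΔ
  obtain ⟨s₃, hs₃, a₃⟩ := exists_desc Ψ p₂ p₂' sΔ jX (by rw [hsΔ, hkM, w₂])
  have hs₃c : IsCart s₃ := b₂ _ _ sΔ (hsΔ.trans hkM) hsΔc _ _ (arr Ψ p₂ _) (arr Ψ p₂' _) s₃ rfl rfl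
    hs₃ (isCocart_arr _ _ _) (isCocart_arr _ _ _) a₃
  have key : ver ((Ψ.push p₂').map ξ') ≫ s₃ = s₂ ≫ ver ((Ψ.push p₂).map ξ) := by
    refine (isCocart_arr Ψ p₂' M').uniq ?_ ?_
    · rw [comp_base, comp_base, hs₃, hs₂, σ.u_base, ver_base, ver_base, Category.id_comp]
      exact (Category.comp_id _).symm
    · rw [← reassoc_of% (ver_comp_arr Ψ p₂' ξ'), a₃, reassoc_of% cΔ, ver_comp_arr, reassoc_of% a₂]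
  refine hs₃c.uniq ?_ ?_
  · rw [ver_base, comp_base, arr_base, arr_base, h₂']
  · rw [← ver_comp_ver, Category.assoc, key, reassoc_of% c₂, ver_comp_ver, hn]
    rw [Category.assoc, a₃, reassoc_of% aΔ]

/-- The base change of a normalised trace is unique. -/
lemma IsNorm.eq_of_trMor (h : IsNorm Ψ σ f p₂ Δ θ ξ τ) (bθ : BC θ f p₂ f)
    {τ₂ : (Ψ.push p₂).obj M ⟶ σ.O X} (hτ₂ : TrMor Ψ f p₂ τ τ₂ θ (σ.u f)) :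
    (ver ((Ψ.push p₂).map ξ ≫ τ₂) : (⟨X, σ.O X⟩ : Tot P) ⟶ _) =
      arr Ψ Δ (σ.O X) ≫ arr Ψ p₂ ((Ψ.push Δ).obj (σ.O X)) := by
  obtain ⟨τ₂', hτ₂', hn⟩ := h
  have h1 : τ₂ = τ₂' := hτ₂.unique hτ₂' (by rw [σ.u_base]; exact bθ)
  rw [h1]
  exact hn

/-- Comparison of two normalised traces. -/
theorem comp_eq_self {τ' : (Ψ.push f).obj K ⟶ σ.O S} (h : IsNorm Ψ σ f p₂ Δ θ ξ τ)
    (h' : IsNorm Ψ σ f p₂ Δ θ ξ τ') (bθ : BC θ f p₂ f)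
    (φ : K ⟶ K) (hφ : (Ψ.push f).map φ ≫ τ = τ') (φM : M ⟶ M) (hφM : ver φM ≫ θ = θ ≫ ver φ)
    {τ₂ : (Ψ.push p₂).obj M ⟶ σ.O X} (hτ₂ : TrMor Ψ f p₂ τ τ₂ θ (σ.u f))
    (hinj : Function.Injective (fun y : (Ψ.push Δ).obj (σ.O X) ⟶ M => (Ψ.push p₂).map y ≫ τ₂)) :
    ξ ≫ φM = ξ := by
  have h1 := h.eq_of_trMor bθ hτ₂
  obtain ⟨τ₂', hτ₂', hn'⟩ := h'
  have h2 := hτ₂.comp ((trMor_ver_iff (K := σ.O S) φ).2 hφ)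
  rw [← hφM, Category.comp_id] at h2
  have h3 : TrMor Ψ f p₂ τ' τ₂ (ver φM ≫ θ) (𝟙 _ ≫ σ.u f) := by rwa [Category.id_comp]
  have h4 : TrMor Ψ p₂ p₂ τ₂' τ₂ (ver φM) (𝟙 _) := hτ₂'.cancel h3 (by rw [σ.u_base]; exact bθ) (by
    rw [ver_base, id_base]
    simp)
  have h5 := (trMor_ver_iff φM).1 h4
  refine hinj ?_
  dsimp only
  refine ver_injective (P := P) ?_
  rw [h1, Functor.map_comp, Category.assoc, h5, hn']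

/-- Transport of normalised traces along isomorphisms. -/
theorem IsNorm.of_iso {K₀ : D X} {M₀ : D Q} {θ₀ : (⟨Q, M₀⟩ : Tot P) ⟶ ⟨X, K₀⟩}
    {ξ₀ : (Ψ.push Δ).obj (σ.O X) ⟶ M₀} {τ₀ : (Ψ.push f).obj K₀ ⟶ σ.O S}
    (h : IsNorm Ψ σ f p₂ Δ θ₀ ξ₀ τ₀) (α : K₀ ≅ K) (αM : M₀ ≅ M)
    (hα : ver αM.hom ≫ θ₀ = θ ≫ ver α.hom) (hξ : ξ₀ ≫ αM.hom = ξ) :
    IsNorm Ψ σ f p₂ Δ θ ξ ((Ψ.push f).map α.inv ≫ τ₀) := by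
  obtain ⟨τ₂, hτ₂, hn⟩ := h
  refine ⟨(Ψ.push p₂).map αM.inv ≫ τ₂, ?_, ?_⟩
  · have h1 : TrMor Ψ f f ((Ψ.push f).map α.inv ≫ τ₀) τ₀ (ver α.inv) (𝟙 _) :=
      (trMor_ver_iff (K := σ.O S) α.inv).2 rfl
    have h2 : TrMor Ψ p₂ p₂ τ₂ ((Ψ.push p₂).map αM.inv ≫ τ₂) (ver αM.hom) (𝟙 _) :=
      (trMor_ver_iff (K := σ.O X) αM.hom).2 (by
        rw [← Category.assoc, ← Functor.map_comp, Iso.hom_inv_id, CategoryTheory.Functor.map_id,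
          Category.id_comp])
    have h3 := (h2.comp hτ₂).comp h1
    rw [Category.id_comp, Category.comp_id, hα, Category.assoc, ver_comp_ver, Iso.inv_hom_id, ver_id, Category.comp_id] at h3
    exact h3
  · rw [← hξ, Functor.map_comp, Category.assoc, ← Category.assoc ((Ψ.push p₂).map αM.hom),
      ← Functor.map_comp, Iso.hom_inv_id, CategoryTheory.Functor.map_id, Category.id_comp, hn]

/-- If the base change `τ₂` is universal then so is `ξ`. -/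
theorem bijective_of_norm (h₂ : Δ ≫ p₂ = 𝟙 X) {τ₂ : (Ψ.push p₂).obj M ⟶ σ.O X}
    (hn : (ver ((Ψ.push p₂).map ξ ≫ τ₂) : (⟨X, σ.O X⟩ : Tot P) ⟶ _) =
      arr Ψ Δ (σ.O X) ≫ arr Ψ p₂ ((Ψ.push Δ).obj (σ.O X)))
    (N : D X) (hb : Function.Bijective (fun y : (Ψ.push Δ).obj N ⟶ M => (Ψ.push p₂).map y ≫ τ₂)) :
    Function.Bijective (fun φ : N ⟶ σ.O X => (Ψ.push Δ).map φ ≫ ξ) := by
  obtain ⟨w, hw⟩ := exists_w Ψ Δ p₂ h₂ N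
  have hwi := isIso_w Δ p₂ w hw
  refine (Function.Bijective.of_comp_iff' hb _).1 ?_
  have e : (fun y : (Ψ.push Δ).obj N ⟶ M => (Ψ.push p₂).map y ≫ τ₂) ∘
      (fun φ : N ⟶ σ.O X => (Ψ.push Δ).map φ ≫ ξ) = fun φ : N ⟶ σ.O X => w ≫ φ := by
    funext φ
    dsimp only [Function.comp_apply]
    rw [Functor.map_comp, Category.assoc]
    exact w_naturality Δ p₂ φ w hw _ hn
  rw [e]
  exact ((asIso w).symm.homFromEquiv (Z := σ.O X)).bijective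

/-- Existence of a normalised arrow. -/
theorem exists_norm (h₂ : Δ ≫ p₂ = 𝟙 X) {τ₂ : (Ψ.push p₂).obj M ⟶ σ.O X}
    (hb : Function.Surjective (fun y : (Ψ.push Δ).obj (σ.O X) ⟶ M => (Ψ.push p₂).map y ≫ τ₂)) :
    ∃ ξ : (Ψ.push Δ).obj (σ.O X) ⟶ M, (ver ((Ψ.push p₂).map ξ ≫ τ₂) : (⟨X, σ.O X⟩ : Tot P) ⟶ _) =
      arr Ψ Δ (σ.O X) ≫ arr Ψ p₂ ((Ψ.push Δ).obj (σ.O X)) := by
  obtain ⟨w, hw⟩ := exists_w Ψ Δ p₂ h₂ (σ.O X)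
  obtain ⟨ξ, hξ⟩ := hb w
  exact ⟨ξ, by rw [← hw]; exact congrArg ver hξ⟩

end Norm

end Groth.Agent.K477.NormTr
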