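import Groth.Agent.Dual3.K477.SecCore
import Groth.Agent.Dual3.K477.GraphSec
import Groth.Agent.Dual.H355.FBC
import Groth.Agent.Dual.H366.ExtQCoh
import Groth.Agent.Dual.H366.ConSec
import Groth.Agent.Dual.H375.ExtRestr

/-!
# `f^! O_S = Ω^n[n]` for `f` separated and smooth, through a compactification
-/

set_option autoImplicit false

universe u

open CategoryTheory CategoryTheory.Limits AlgebraicGeometry

attribute [local instance] HasDerivedCategory.standard

namespace Groth.Agent.K477.SmoothSep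

open Groth.Agent Groth.Agent.Dual.H339 Groth.Agent.Ega1.ADualUniv Groth.Agent.Ega1.ADualOpen
  Groth.Agent.LoccohB.AdStruct Groth.Agent.Dual.H339.DualPair Groth.Agent.K477.GraphSec

variable {X S Xb : Scheme.{u}}

open Groth.Agent.PerfA.Restrict in
theorem nonempty_lpull_restrict (g j : X ⟶ Xb) (hg : g = j) [IsOpenImmersion j] [DCoh.HasLpull g] :
    Nonempty (DCoh.Lpull g ≅ restrictD j) := by
  subst hg
  exact ⟨PerfB.LpullOpens.lpullRestrictD g⟩

open Groth.Agent.PerfA.Restrict in
/-- `j^* fb^! O_S ≅ Ω^n_{X/S}[n]`, `f = j ≫ fb` smooth and separated, `fb` proper. -/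
theorem main [IsNoetherian S] [IsNoetherian X] (n : ℕ) (f : X ⟶ S) [IsSeparated f] [QuasiCompact f]
    [SmoothOfRelativeDimension n f] (j : X ⟶ Xb) [IsOpenImmersion j] (fb : Xb ⟶ S) [IsProper fb]
    (w : j ≫ fb = f) [DCoh.HasRpush fb] {O : DCoh.D S} (hOq : DCoh.IsQCohD O)
    (hO : Nonempty (O ≅ DCoh.inD S (Coh.structureModule S))) {ω : DCoh.D Xb}
    (hu : Univ fb O ω) (L : X.Modules) (hL : ExtPow.IsExtPow n (Omega.sheaf f) L) :
    Nonempty ((restrictD j).obj ω ≅ (DCoh.inD X L)⟦(n : ℤ)⟧) := by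
  have hXb : IsNoetherian Xb := isNoetherian_of_finiteType fb
  have hsm : Smooth f := SmoothOfRelativeDimension.smooth n f
  have hp : IsProper (pullback.snd fb f) := inferInstance
  have hZ : IsNoetherian (pullback fb f) := isNoetherian_of_finiteType (pullback.snd fb f)
  have : DCoh.HasRpush (pullback.snd fb f) := Dcoh.DerSch.hasRpush _
  have : DCoh.HasLpull (pullback.fst fb f) := S0959.result _
  have : DCoh.HasLpull f := S0959.result _
  have : DCoh.HasRpush (sec f j fb w) := Dcoh.DerSch.hasRpush _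
  have : DCoh.HasLpull (sec f j fb w) := S0959.result _
  have hOge : O.IsGE 0 := by
    obtain ⟨e⟩ := hO
    have : (DCoh.inD S (Coh.structureModule S)).IsGE 0 :=
      inferInstanceAs (((DerivedCategory.singleFunctor S.Modules 0).obj _).IsGE 0)
    exact ⟨(DerivedCategory.TStructure.t.isGE_of_iso e.symm _).ge⟩
  obtain ⟨b, hb⟩ := exists_isGE fb hu hOq 0 hOge
  let M : DCoh.D (pullback fb f) := (DCoh.Lpull (pullback.fst fb f)).obj ω
  have hM : DCoh.IsQCohD M := S1054.result _ ω hu.qcoh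
  have hMb : M.IsGE b := by
    have h1 : ((Scheme.Modules.pullback (pullback.fst fb f)).mapDerivedCategory.obj ω).IsGE b :=
      PerfA.ExactD.isGE_map _ _ _
    exact ⟨(DerivedCategory.TStructure.t.isGE_of_iso
      ((PerfC.LpullFlat.lpullIso (pullback.fst fb f)).symm.app ω) b).ge⟩
  have hBC : Univ (pullback.snd fb f) ((DCoh.Lpull f).obj O) M :=
    Dual.H355.FBC.univ_flat (IsPullback.of_hasPullback fb f) hOq 0 hOge hu
  obtain ⟨e0⟩ := Core.nonempty_lpull_unit f hO
  have h0 : Univ (pullback.snd fb f) (DCoh.inD X (Coh.structureModule X)) M := hBC.of_iso_right e0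
  have hOX : DCoh.IsQCohD (DCoh.inD X (Coh.structureModule X)) :=
    PerfA.QCohD.isQCohD_inD _ (Ega2.QCohLocal.isQCoh_structureModule X)
  have h1 : Univ (sec f j fb w) M (DCoh.inD X (Coh.structureModule X)) :=
    SecCore.univ_section (sec f j fb w) (pullback.snd fb f) (sec_snd f j fb w) hOX hM h0
  have hN := isFinLocFreeOfRank_conormal_sec f j fb w n
  obtain ⟨eC⟩ := nonempty_conormal_iso f j fb w
  obtain ⟨L', hL'⟩ := Dual.H366.ExtQCoh.exists_isExtPow n (E := Omega.conormal (sec f j fb w))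
    (Dual.H366.ConSec.isQCoh_conormal _)
  obtain ⟨eL⟩ := Dual.H375.ExtRestr.nonempty_iso eC hL' hL
  obtain ⟨e1⟩ := SecCore.core n (sec f j fb w) (isRegularClosedImmersion_sec f j fb w) hN hM b hMb h1 L' hL'
  have : DCoh.HasLpull (sec f j fb w ≫ pullback.fst fb f) := S0959.result _
  obtain ⟨e2⟩ := S0911.result (sec f j fb w) (pullback.fst fb f)
  obtain ⟨e3⟩ := nonempty_lpull_restrict (sec f j fb w ≫ pullback.fst fb f) j (sec_fst f j fb w)
  exact ⟨(e3.app ω).symm ≪≫ (e2.app ω).symm ≪≫ e1 ≪≫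
    (shiftFunctor (DCoh.D X) (n : ℤ)).mapIso ((DerivedCategory.singleFunctor X.Modules 0).mapIso eL)⟩

end Groth.Agent.K477.SmoothSep
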