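import Groth.Agent.Dual.H328.WUniv
import Groth.Agent.Dual.H375.Glue
import Groth.Agent.Dual.H375.RestrComp
import Groth.Agent.Dual3.K477.NormalGeo
import Groth.Agent.Dual3.K477.SmoothSep

/-!
# The dualizing sheaf over the smooth locus
-/

set_option autoImplicit false

universe u

open CategoryTheory CategoryTheory.Limits AlgebraicGeometry

attribute [local instance] HasDerivedCategory.standard

namespace Groth.Agent.K477.NormalSm

open Groth.Agent Groth.Agent.Dual.H375 Groth.Agent.Dual.H375.RestrComp AlgebraicGeometry.Scheme.Modules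

variable {k : Type u} [Field k] {X : Scheme.{u}} (p : X ⟶ Spec (CommRingCat.of k)) [Dual3.IsSepFT p] 
    (c : DEt.Compactification p) [DCoh.HasRpush c.fbar] (hc : DCoh.RpushPreservesQCoh c.fbar)
    (a : DCoh.DQCoh (Spec (CommRingCat.of k)) ⥤ DCoh.DQCoh c.Xbar) (adj : DCoh.RpushQ c.fbar hc ⊣ a)
    [∀ (U V : Scheme.{u}) (j : U ⟶ V) [IsOpenImmersion j], PreservesFiniteLimits (Scheme.Modules.restrictFunctor j)]
    (O : DCoh.DQCoh (Spec (CommRingCat.of k))) (hO : Nonempty (O.obj ≅ DCoh.inD (Spec (CommRingCat.of k)) (Coh.structureModule (Spec (CommRingCat.of k)))))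

include adj hO

/-- Over a smooth open the `(-n)`-th cohomology of `p^! O` is the top exterior power of the differentials. -/
theorem nonempty_restrict_iso [PerfectField k] [IsNoetherian X] (V : X.Opens) (n : ℕ)
    [SmoothOfRelativeDimension n (V.ι ≫ p)] (W : X.Modules) (hW : ExtPow.IsExtPow n (Omega.sheaf p) W) :
    Nonempty ((DCoh.HD ((Dual3.shriekC c a).obj O) (-(n : ℤ))).restrict V.ι ≅ W.restrict V.ι) := by
  have hu : Ega1.ADualUniv.Univ c.fbar O.obj (a.obj O).obj := Ega1.ADualUniv.univ_of_adj (h := hc) adj O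
  obtain ⟨L, hL⟩ := Dual.H366.ExtQCoh.exists_isExtPow n (E := Omega.sheaf (V.ι ≫ p))
    (Dual.H366.ConSec.isQCoh_omega _)
  have hV : IsNoetherian (V : Scheme.{u}) := LoccohB.AdStruct.isNoetherian_of_finiteType (V.ι ≫ p)
  obtain ⟨e1⟩ := SmoothSep.main n (V.ι ≫ p) (V.ι ≫ c.j) c.fbar (by rw [Category.assoc, c.fac]) O.property hO hu L hL
  obtain ⟨e2⟩ := Dual.H328.WUniv.nonempty_HD_inD_shift L (n : ℤ) (-(n : ℤ)) (by ring)
  have e3 : DCoh.HD ((Dual3.shriekC (restrictComp c V.ι) a).obj O) (-(n : ℤ)) ≅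
      DCoh.HD ((DCoh.inD V L)⟦(n : ℤ)⟧) (-(n : ℤ)) := (DerivedCategory.homologyFunctor _ _).mapIso e1
  have eΩ : (Omega.sheaf p).restrict V.ι ≅ Omega.sheaf (V.ι ≫ p) :=
    (restrictFunctorIsoPullback V.ι).app _ ≪≫
      Smoothlim.ConormalRes.omegaRestrictIso (j := V.ι) (f' := V.ι ≫ p) (l := 𝟙 _)
        (by rw [Category.comp_id])
  obtain ⟨eL⟩ := ExtRestr.nonempty_iso eΩ (ExtRestr.isExtPow_restrict V hW) hL
  exact ⟨(hdIso c V.ι a O (-(n : ℤ))).symm ≪≫ e3 ≪≫ e2 ≪≫ eL.symm⟩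

end Groth.Agent.K477.NormalSm
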