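import Groth.Agent.PerfC.RHomD
import Groth.Agent.PerfC.LpullTens
import Groth.Agent.LoccohB.RightAdj2
import Groth.Agent.Dcoh.ModTens
import Groth.Agent.Dcoh.DualX
import Groth.Agent.S0959

/-!
# Isomorphisms in `D_QCoh` are detected by `Rf_* RHom(E, -)`, `E` perfect
-/

set_option autoImplicit false

universe u

open CategoryTheory CategoryTheory.Limits AlgebraicGeometry MonoidalCategory

attribute [local instance] HasDerivedCategory.standard

open scoped Groth.Agent.Dcoh.MonCat Groth.Agent.Dcoh.ModD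

namespace Groth.Agent.K477.RHomDetect

open Groth.Agent.Dcoh Groth.Agent.PerfC.DTens Groth.Agent.PerfC.LpullTens

variable {X S : Scheme.{u}}

/-- If `Rf_* RHom(E, φ)` is an isomorphism then `Hom(E, φ)` is bijective. -/
theorem bijective_comp (f : X ⟶ S) [DCoh.HasRpush f] {F G : DCoh.D X} (φ : F ⟶ G)
    (E : CochainComplex X.Modules ℤ) [DCoh.HasLTensorCx E] [DCoh.HasRSheafHom E]
    (h : IsIso ((DCoh.Rpush f).map ((DCoh.RSheafHom E).map φ))) :
    Function.Bijective (fun g : DCoh.toD X E ⟶ F => g ≫ φ) := by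
  have := S0959.result f
  let adj₁ := DerPull.lpullAdj f
  let adj₂ := ModTens.adjQ E
  let e₁ : (tensorRight (DerivedCategory.Q.obj E)).obj
      ((DCoh.Lpull f).obj (DerivedCategory.Q.obj (unitCx S))) ≅ DCoh.toD X E :=
    (tensorRight (DerivedCategory.Q.obj E)).mapIso (lpullUnit f ≪≫
      ((DerivedCategory.singleFunctorIsoCompQ X.Modules 0).app (Coh.structureModule X)).symm ≪≫
      (DualX.unitIso X).symm) ≪≫ λ_ (DerivedCategory.Q.obj E)
  let Φ : ∀ K : DCoh.D X, (DCoh.toD X E ⟶ K) ≃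
      (DerivedCategory.Q.obj (unitCx S) ⟶ (DCoh.Rpush f).obj ((DCoh.RSheafHom E).obj K)) := fun K =>
    (e₁.homFromEquiv.symm.trans (adj₂.homEquiv _ _)).trans (adj₁.homEquiv _ _)
  have nat : ∀ g : DCoh.toD X E ⟶ F,
      Φ G (g ≫ φ) = Φ F g ≫ (DCoh.Rpush f).map ((DCoh.RSheafHom E).map φ) := by
    intro g
    dsimp only [Φ, Equiv.trans_apply]
    rw [← adj₁.homEquiv_naturality_right, ← adj₂.homEquiv_naturality_right]
    congr 2
    change e₁.hom ≫ g ≫ φ = (e₁.hom ≫ g) ≫ φ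
    rw [Category.assoc]
  have h1 : Function.Bijective (fun t : DerivedCategory.Q.obj (unitCx S) ⟶
      (DCoh.Rpush f).obj ((DCoh.RSheafHom E).obj F) =>
      t ≫ (DCoh.Rpush f).map ((DCoh.RSheafHom E).map φ)) :=
    ((asIso ((DCoh.Rpush f).map ((DCoh.RSheafHom E).map φ))).homToEquiv
      (Z := DerivedCategory.Q.obj (unitCx S))).bijective
  have h2 : (fun g : DCoh.toD X E ⟶ F => g ≫ φ) = (Φ G).symm ∘
      (fun t => t ≫ (DCoh.Rpush f).map ((DCoh.RSheafHom E).map φ)) ∘ (Φ F) := by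
    funext g
    dsimp only [Function.comp_apply]
    rw [← nat, Equiv.symm_apply_apply]
  rw [h2]
  exact (Φ G).symm.bijective.comp (h1.comp (Φ F).bijective)

/-- `Rf_* RHom(E, φ)` isomorphism for all perfect `E` implies `φ` isomorphism. -/
theorem isIso_of_forall [CompactSpace X] [QuasiSeparatedSpace X]
    (f : X ⟶ S) [DCoh.HasRpush f] {F G : DCoh.D X} (hF : DCoh.IsQCohD F) (hG : DCoh.IsQCohD G)
    (φ : F ⟶ G)
    (h : ∀ (E : CochainComplex X.Modules ℤ) [DCoh.HasLTensorCx E] [DCoh.HasRSheafHom E],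
      DCoh.IsPerfect (DCoh.toD X E) →
      IsIso ((DCoh.Rpush f).map ((DCoh.RSheafHom E).map φ))) :
    IsIso φ := by
  obtain ⟨P, hP, -, hPg⟩ := LoccohB.RightAdj.exists_compact_generator X
  let F' : DCoh.DQCoh X := ⟨F, hF⟩
  let G' : DCoh.DQCoh X := ⟨G, hG⟩
  let φ' : F' ⟶ G' := ObjectProperty.homMk φ
  have key : IsIso φ' := by
    refine CohtopA.BrownW.isIso_of_generates _ hPg φ' fun _ n => ?_
    have hp : DCoh.IsPerfect (P⟦n⟧).obj := LoccohB.RightAdj2.isPerfect_shift_DQCoh hP n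
    obtain ⟨E, ⟨e⟩⟩ : ∃ E : CochainComplex X.Modules ℤ, Nonempty (DCoh.toD X E ≅ (P⟦n⟧).obj) :=
      ⟨_, ⟨DerivedCategory.Q.objObjPreimageIso (P⟦n⟧).obj⟩⟩
    have h0 : DCoh.IsPerfect (DCoh.toD X E) := LocalD.isPerfect_of_iso e.symm hp
    have := ModTens.hasLTensorCx E
    have := PerfC.RHomD.hasRSheafHom E
    have h1 := bijective_comp f φ E (h E h0)
    have h2 : Function.Bijective (fun g : (P⟦n⟧).obj ⟶ F => g ≫ φ) := by
      have h3 : (fun g : (P⟦n⟧).obj ⟶ F => g ≫ φ) =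
          e.homFromEquiv.symm.symm ∘ (fun g : DCoh.toD X E ⟶ F => g ≫ φ) ∘ e.homFromEquiv.symm := by
        funext g
        change g ≫ φ = e.inv ≫ (e.hom ≫ g) ≫ φ
        simp
      rw [h3]
      exact (Equiv.bijective _).comp (h1.comp (Equiv.bijective _))
    constructor
    · intro a b hab
      ext
      exact h2.1 (congrArg (fun t => t.hom) hab)
    · intro b
      obtain ⟨a, ha⟩ := h2.2 b.hom
      exact ⟨ObjectProperty.homMk a, by ext; exact ha⟩
  exact inferInstanceAs (IsIso ((ObjectProperty.ι (DCoh.IsQCohD (X := X))).map φ'))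

end Groth.Agent.K477.RHomDetect
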