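import Groth.Agent.LoccohB.DualBC2
import Groth.Agent.Dcoh.MapDer
import Groth.Agent.LoccohB.HomBC2

/-!
# Dualizing complexes and ring isomorphisms
-/

set_option autoImplicit false
universe u

open CategoryTheory CategoryTheory.Limits
open scoped TensorProduct

attribute [local instance] HasDerivedCategory.standard

namespace Groth.Agent.K477.RingIso

open Groth.Agent Groth.Agent.LoccohB.FlatLBC

variable {A B : Type u} [CommRing A] [CommRing B]

/-- Extension of scalars along the inverse of a ring isomorphism is restriction of scalars. -/
noncomputable def extIso (e : A ≃+* B) :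
    ModuleCat.extendScalars.{u, u, u} (e.symm : B →+* A) ≅
      ModuleCat.restrictScalars.{u} (e : A →+* B) :=
  (ModuleCat.extendRestrictScalarsAdj.{u, u, u} (e.symm : B →+* A)).leftAdjointUniq
    (ModuleCat.restrictScalarsEquivalenceOfRingEquiv.{u} e).toAdjunction

theorem flat_of_equiv (e : A ≃+* B) : (e : A →+* B).Flat :=
  RingHom.Flat.of_bijective e.bijective

/-- Flat base change along the inverse of a ring isomorphism is restriction of scalars. -/
noncomputable def flatBCIso (e : A ≃+* B) :
    flatBC (e.symm : B →+* A) (flat_of_equiv e.symm) ≅ DRing.restrictD (e : A →+* B) :=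
  haveI := ModuleCat.preservesFiniteLimits_extendScalars_of_flat (flat_of_equiv e.symm)
  Dcoh.MapDer.mapDerIso (extIso e)

/-- Being dualizing descends along restriction of scalars by a ring isomorphism. -/
theorem isDualizing_of_restrictD (e : A ≃+* B) {K : Dual.D B}
    (h : Dual.IsDualizing A ((DRing.restrictD (e : A →+* B)).obj K)) : Dual.IsDualizing B K := by
  have hA : IsNoetherianRing A := h.isNoetherianRing
  have hB : IsNoetherianRing B := isNoetherianRing_of_ringEquiv A e
  let _ : Algebra B A := (e.symm : B →+* A).toAlgebra
  let l : B ≃ₗ[B] A :=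
    { e.symm with
      map_smul' := fun r x => by
        change e.symm (r * x) = e.symm r * e.symm x
        exact map_mul _ _ _ }
  have : Module.FaithfullyFlat B A := Module.FaithfullyFlat.of_linearEquiv B B l.symm
  have hf : (algebraMap B A).Flat := flat_of_equiv e.symm
  refine LoccohB.DualBC.isDualizing_of_flatBC' A hf ?_
  exact LoccohB.HomBC.isDualizing_of_iso ((flatBCIso e).symm.app K) h

end Groth.Agent.K477.RingIso
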