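import Groth.Agent.Dual.H339.Core

/-!
# `Li^* M ≅ Λ^d C_i [d]` if `i^! M = O`

* `core`: `i : X ⟶ Z` a regular closed immersion with conormal module locally free of rank `d`,
  `M ∈ D^+_QCoh(Z)` with `Univ i M O_X`; then `Li^* M ≅ L[d]`, `L` a `d`-th exterior power of the conormal module.
* `univ_section`: if `i` is a section of `p` and `Univ p O_X M` then `Univ i M O_X`.
-/

set_option autoImplicit false

universe u

open CategoryTheory CategoryTheory.Limits AlgebraicGeometry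

attribute [local instance] HasDerivedCategory.standard

namespace Groth.Agent.K477.SecCore

open Groth.Agent Groth.Agent.Dual.H339 Groth.Agent.Ega1.ADualUniv Groth.Agent.Ega1.ADualOpen
  Groth.Agent.LoccohB.AdStruct Groth.Agent.Dual.H339.DualPair

variable {X Z : Scheme.{u}}

/-- The universal pair for a section. -/
theorem univ_section [IsNoetherian X] [IsNoetherian Z] (i : X ⟶ Z) (p : Z ⟶ X) (hip : i ≫ p = 𝟙 X)
    {K : DCoh.D X} {M : DCoh.D Z} [DCoh.HasRpush i] [DCoh.HasRpush p]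
    (hK : DCoh.IsQCohD K) (hM : DCoh.IsQCohD M) (h : Univ p K M) : Univ i M K := by
  have : DCoh.HasRpush (i ≫ p) := Dcoh.DerSch.hasRpush _
  have : DCoh.HasRpush (𝟙 X) := Dcoh.DerSch.hasRpush _
  obtain ⟨L, hL⟩ := exists_univ i M hM
  have h1 : Univ (i ≫ p) K L := Univ.comp' i p h hL
  have h2 : Univ (𝟙 X) K L := Univ.of_eq hip h1
  obtain ⟨e⟩ := h2.unique (Univ.id hK)
  exact hL.of_iso_left e hK

/-- `Li^* M ≅ Λ^d C_i [d]` if `i^! M = O_X`. -/
theorem core [IsNoetherian X] [IsNoetherian Z] (d : ℕ) (i : X ⟶ Z) [IsClosedImmersion i]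
    [DCoh.HasRpush i] [DCoh.HasLpull i] (hi : Mor2.IsRegularClosedImmersion i)
    (hN : FlatMod.IsFinLocFreeOfRank d (Omega.conormal i)) {M : DCoh.D Z} (hM : DCoh.IsQCohD M)
    (b : ℤ) (hb : M.IsGE b) (h : Univ i M (DCoh.inD X (Coh.structureModule X)))
    (L : X.Modules) (hL : ExtPow.IsExtPow d (Omega.conormal i) L) :
    Nonempty ((DCoh.Lpull i).obj M ≅ (DCoh.inD X L)⟦(d : ℤ)⟧) := by
  have hO : DCoh.IsQCohD (DCoh.inD X (Coh.structureModule X)) :=
    PerfA.QCohD.isQCohD_inD _ (Ega2.QCohLocal.isQCoh_structureModule X)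
  have hdeg : ∀ q : ℤ, q ≠ -(d : ℤ) → IsZero (DCoh.HD ((DCoh.Lpull i).obj M) q) := by
    intro q hq
    rw [LocalDeg.isZero_HD_iff i hi hN hM b hb h q (d + q) rfl]
    have i1 : (DCoh.inD X (Coh.structureModule X)).IsGE 0 :=
      inferInstanceAs (((DerivedCategory.singleFunctor X.Modules 0).obj _).IsGE 0)
    have i2 : (DCoh.inD X (Coh.structureModule X)).IsLE 0 :=
      inferInstanceAs (((DerivedCategory.singleFunctor X.Modules 0).obj _).IsLE 0)
    rcases lt_or_gt_of_ne (show (d : ℤ) + q ≠ 0 by omega) with h' | h'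
    · exact DerivedCategory.isZero_of_isGE _ 0 _ h'
    · exact DerivedCategory.isZero_of_isLE _ 0 _ h'
  have hLE : ((DCoh.Lpull i).obj M).IsLE (-(d : ℤ)) := by
    rw [DerivedCategory.isLE_iff]
    exact fun q hq => hdeg q (by omega)
  have hGE : ((DCoh.Lpull i).obj M).IsGE (-(d : ℤ)) := by
    rw [DerivedCategory.isGE_iff]
    exact fun q hq => hdeg q (by omega)
  have hperf : DCoh.IsPerfect ((DCoh.Rpush i).obj (OD X)) :=
    Dcoh.LocalD.isPerfect_of_iso ((DCoh.Rpush i).mapIso Twist.ODIso.symm)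
      (PerfPush.isPerfect_push i hi)
  have hΔ' : Univ i M ((DCoh.inD X (Coh.structureModule X))⟦(0 : ℤ)⟧) :=
    h.of_iso_left ((shiftFunctorZero (DCoh.D X) ℤ).symm.app _)
      (PerfC.ProjAbs291.isQCohD_shift hO 0)
  obtain ⟨e2⟩ := Twist.main i hi hperf hL hM (Coh.structureModule X) 0 (-(d : ℤ))
    hΔ' hLE hGE (zero_add _)
  let e3 : L ≅ DCoh.HD ((DCoh.Lpull i).obj M) (-(d : ℤ)) :=
    (Sga67.TensorOps.tensorUnit L).symm ≪≫ e2
  obtain ⟨e4⟩ := LoccohB.DCalc.exists_iso_single ((DCoh.Lpull i).obj M) (-(d : ℤ))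
  refine ⟨e4 ≪≫ (DerivedCategory.singleFunctor X.Modules (-(d : ℤ))).mapIso e3.symm ≪≫ ?_⟩
  exact (((DerivedCategory.singleFunctors X.Modules).shiftIso (d : ℤ) (-(d : ℤ)) 0 (by omega)).app L).symm

end Groth.Agent.K477.SecCore
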