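import Groth.Agent.Dual3.K477.SheafDual
import Groth.Agent.Dual3.K478.GammaZ

/-!
# Sheafy duality with supports

* `isIso_rightAdj_map`: a right adjoint `T'` of `T` inverts `g : A ⟶ B` if `Hom(T M, A) ⟶ Hom(T M, B)` is bijective
  for all `M`;
* `isIso_RH_RgammaZ`: `RHom(E, RΓ_Z N) ≅ RHom(E, N)` for `E` vanishing off `Z`;
* `nonempty_open`: `Rj_* RHom(E, j^* K) ≅ RHom(Rj_* E, K)` for an open immersion `j : X ⟶ Xb`, `E ∈ D_QCoh(X)` with
  support closed in `Xb`;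
* `main`: duality with supports.
-/

set_option autoImplicit false

universe v₁ v₂ u₁ u₂ u

open CategoryTheory CategoryTheory.Limits

namespace Groth.Agent.K477.SheafSupp

section Abstract

variable {C : Type u₁} [Category.{v₁} C] {D : Type u₂} [Category.{v₂} D] {T : C ⥤ D} {T' : D ⥤ C}

theorem isIso_of_bijective_comp {A B : C} (g : A ⟶ B)
    (h : ∀ M : C, Function.Bijective (fun φ : M ⟶ A => φ ≫ g)) : IsIso g := by
  obtain ⟨s, hs⟩ := (h B).2 (𝟙 B)
  refine ⟨s, (h A).1 ?_, hs⟩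
  change (g ≫ s) ≫ g = 𝟙 A ≫ g
  have hs' : s ≫ g = 𝟙 B := hs
  rw [Category.assoc, hs', Category.comp_id, Category.id_comp]

theorem isIso_rightAdj_map (adj : T ⊣ T') {A B : D} (g : A ⟶ B)
    (h : ∀ M : C, Function.Bijective (fun φ : T.obj M ⟶ A => φ ≫ g)) : IsIso (T'.map g) := by
  refine isIso_of_bijective_comp _ fun M => ?_
  have e : (fun φ : M ⟶ T'.obj A => φ ≫ T'.map g) =
      (adj.homEquiv _ _) ∘ (fun φ : T.obj M ⟶ A => φ ≫ g) ∘ (adj.homEquiv _ _).symm := by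
    funext φ
    simp [Adjunction.homEquiv_naturality_right]
  rw [e]
  exact (Equiv.bijective _).comp ((h M).comp (Equiv.bijective _))

end Abstract

open AlgebraicGeometry

attribute [local instance] HasDerivedCategory.standard

open DCoh Groth.Agent.PerfC.DTens Groth.Agent.PerfC.RHomD Groth.Agent.PerfC.LpullTens
  Groth.Agent.PerfC.ExtZeroD Groth.Agent.Ega1.ADualUniv Groth.Agent.Dual.H352.EndoLocal
  Groth.Agent.LoccohB SheafDual

variable {X Xb Y U : Scheme.{u}}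

/-- `E ⊗ᴸ M` vanishes where `E` does. -/
theorem isZero_restrictD_tens (j : U ⟶ X) [IsOpenImmersion j] {E : D X} (hE : IsZero ((restrictD j).obj E))
    (M : D X) : IsZero ((restrictD j).obj (((LTX X).obj E).obj M)) := by
  have e : (restrictD j).obj (((LTX X).obj E).obj M) ≅
      ((LTX U).obj ((restrictD j).obj M)).obj ((restrictD j).obj E) :=
    PerfC.LTXRestr.restrTensObj j E M ≪≫ (((symmIso U).app _).app _).symm
  exact (PerfC.ProjAbs291.isZero_LTX _ hE).of_iso e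

/-- `RHom(E, RΓ_Z N) ≅ RHom(E, N)` for `E` vanishing off `Z`. -/
theorem isIso_RH_RgammaZ (j : U ⟶ X) [IsOpenImmersion j] [CxOX.HasRgammaZ j] {E : D X}
    (hE : IsZero ((restrictD j).obj E)) (N : D X) :
    IsIso ((RH E).map ((CxOX.RgammaZToId j).app N)) :=
  isIso_rightAdj_map (rhAdj' E) _ fun M =>
    K478.GammaZ.bijective_comp_RgammaZToId j (isZero_restrictD_tens j hE M) N

/-- `Rj_* RHom(E, N) ≅ RHom(Rj_* E, Rj_* N)`. -/
theorem isIso_dualMapD_open (j : X ⟶ Xb) [IsOpenImmersion j] [QuasiCompact j] [HasRpush j] [HasLpull j]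
    {E : D X} (hE : IsQCohD E) (N : D X) : IsIso (dualMapD j E (𝟙 ((Rpush j).obj N))) := by
  refine isIso_dualMapD j hE _ fun V => ?_
  have hR : HasRpush (j ∣_ V) := Dcoh.DerSch.hasRpush _
  have hp : IsPullback (j ⁻¹ᵁ V).ι (j ∣_ V) j V.ι := (isPullback_morphismRestrict j V).flip
  obtain ⟨β⟩ := Dcoh.DerSch.exists_rpushRestrictIso j (j ∣_ V) (j ⁻¹ᵁ V).ι V.ι hp
  refine ⟨hR, β, fun P _ => ?_⟩
  have h1 : Function.Bijective (fun ψ : P ⟶ (restrictD (j ⁻¹ᵁ V).ι).obj N => (Rpush (j ∣_ V)).map ψ) :=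
    Bij.of_full_faithful _ _ _
  have h2 : Function.Bijective (fun ψ : (Rpush (j ∣_ V)).obj P ⟶
      (Rpush (j ∣_ V)).obj ((restrictD (j ⁻¹ᵁ V).ι).obj N) => ψ ≫ β.inv.app N) :=
    ((β.symm.app N).homToEquiv (Z := (Rpush (j ∣_ V)).obj P)).bijective
  convert h2.comp h1 using 1
  funext ψ
  simp

/-- If `A` is supported in the open `X` then `Hom(A, K) ⟶ Hom(A, Rj_* j^* K)` is bijective. -/
theorem bijective_comp_unit (j : X ⟶ Xb) [IsOpenImmersion j] [HasRpush j] {A : D Xb}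
    (hA : IsIso ((PerfC.ExtZeroD.adjunction j).counit.app A)) (K : D Xb) :
    Function.Bijective (fun φ : A ⟶ K => φ ≫ (PerfB.OpenAdj.openAdj j).unit.app K) := by
  have h1 : Function.Bijective (fun φ : A ⟶ K => (restrictD j).map φ) :=
    Bij.of_counit (PerfC.ExtZeroD.adjunction j) _ _ hA
  convert ((PerfB.OpenAdj.openAdj j).homEquiv A ((restrictD j).obj K)).bijective.comp h1 using 1
  funext φ
  simp [Adjunction.homEquiv_unit]

/-- An object vanishing on `W` is supported in `X` if `X` and `W` cover. -/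
theorem isIso_counit_of_isZero (j : X ⟶ Xb) [IsOpenImmersion j] (W : Xb.Opens)
    (hW : (W : Set Xb)ᶜ ⊆ Set.range j) {A : D Xb} (hA : IsZero ((restrictD W.ι).obj A)) :
    IsIso ((PerfC.ExtZeroD.adjunction j).counit.app A) := by
  refine PerfC.ExtZeroD.isIso_counit_app j A fun i x hx => hW ?_
  intro hxW
  exact (K478.GammaZ.isSuppD_iff W.ι A).2 hA i hx (by rw [Scheme.Opens.range_ι]; exact hxW)

/-- `Rj_* RHom(E, j^* K) ≅ RHom(Rj_* E, K)` if `E` vanishes on `j⁻¹ W`, `Xb ∖ W ⊆ j(X)`. -/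
theorem nonempty_open (j : X ⟶ Xb) [IsOpenImmersion j] [QuasiCompact j] [HasRpush j] (W : Xb.Opens)
    (hW : (W : Set Xb)ᶜ ⊆ Set.range j) {E : D X} (hE : IsQCohD E)
    (hEW : IsZero ((restrictD (j ⁻¹ᵁ W).ι).obj E)) (K : D Xb) :
    Nonempty ((Rpush j).obj ((RH E).obj ((restrictD j).obj K)) ≅ (RH ((Rpush j).obj E)).obj K) := by
  have : HasLpull j := S0959.result _
  have h1 := isIso_dualMapD_open j hE ((restrictD j).obj K)
  have hR : HasRpush (j ∣_ W) := Dcoh.DerSch.hasRpush _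
  have hp : IsPullback (j ⁻¹ᵁ W).ι (j ∣_ W) j W.ι := (isPullback_morphismRestrict j W).flip
  obtain ⟨β⟩ := Dcoh.DerSch.exists_rpushRestrictIso j (j ∣_ W) (j ⁻¹ᵁ W).ι W.ι hp
  have h2 : IsZero ((restrictD W.ι).obj ((Rpush j).obj E)) :=
    (PerfC.ProjAbs291.isZero_Rpush _ hEW).of_iso (β.app E)
  have h3 : IsIso ((RH ((Rpush j).obj E)).map ((PerfB.OpenAdj.openAdj j).unit.app K)) :=
    isIso_rightAdj_map (rhAdj' _) _ fun M =>
      bijective_comp_unit j (isIso_counit_of_isZero j W hW (isZero_restrictD_tens W.ι h2 M)) K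
  exact ⟨asIso (dualMapD j E (𝟙 ((Rpush j).obj ((restrictD j).obj K)))) ≪≫
    (asIso ((RH ((Rpush j).obj E)).map ((PerfB.OpenAdj.openAdj j).unit.app K))).symm⟩

/-- Duality with supports. -/
theorem main [IsNoetherian X] [IsNoetherian Y] (j : X ⟶ Xb) [IsOpenImmersion j] (fb : Xb ⟶ Y) [IsProper fb]
    [HasRpush fb] [HasRpush j] (W : Xb.Opens) (hW : (W : Set Xb)ᶜ ⊆ Set.range j)
    [CxOX.HasRgammaZ (j ⁻¹ᵁ W).ι] {E : D X} (hE : IsQCohD E) (hEW : IsZero ((restrictD (j ⁻¹ᵁ W).ι).obj E))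
    {G : D Y} (hG : IsQCohD G) (n : ℤ) (hGn : G.IsGE n) {L : D Xb} (hL : Univ fb G L) :
    Nonempty ((Rpush fb).obj ((Rpush j).obj ((RH E).obj
      ((CxOX.RgammaZ (j ⁻¹ᵁ W).ι).obj ((restrictD j).obj L)))) ≅
        (RH ((Rpush fb).obj ((Rpush j).obj E))).obj G) := by
  obtain ⟨τ, hτ⟩ := hL
  have : HasLpull fb := S0959.result _
  have h1 := isIso_RH_RgammaZ (j ⁻¹ᵁ W).ι hEW ((restrictD j).obj L)
  obtain ⟨e2⟩ := nonempty_open j W hW hE hEW L
  have hjE : IsQCohD ((Rpush j).obj E) := S0998.result j _ hE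
  have h3 := isIso_dualMapD_of_isUniv fb hjE hG n hGn hτ
  exact ⟨(Rpush fb).mapIso ((Rpush j).mapIso (asIso ((RH E).map
    ((CxOX.RgammaZToId (j ⁻¹ᵁ W).ι).app ((restrictD j).obj L)))) ≪≫ e2) ≪≫
    asIso (dualMapD fb ((Rpush j).obj E) τ)⟩

end Groth.Agent.K477.SheafSupp
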