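import Groth.Agent.Dual3.K477.StalkNat
import Groth.Agent.Dual3.K477.RingIso
import Groth.Agent.Dual.K174.Basic
import Groth.Agent.CohDer.K236.InjAmp
import Groth.Agent.S0997
import Groth.Agent.PerfC.ExtZero2
import Groth.Agent.LoccohB.AdAffine
import Groth.Agent.Dual.H332.JointFaith
import Groth.Prelude.Def_DualSch

/-!
# Dualizing complexes on schemes, detected on stalks, for bounded complexes of injectives
-/

set_option autoImplicit false
universe u

open CategoryTheory CategoryTheory.Limits AlgebraicGeometry Opposite TopologicalSpace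
open scoped TensorProduct ChangeOfRings
attribute [local instance] HasDerivedCategory.standard

namespace Groth.Agent.K477.StalkDual

open Groth.Agent Groth.Agent.Dcoh.Stalk Groth.Agent.PerfC.TildeStalk Groth.Agent.LoccohB.FlatLBC
  Groth.Agent.K477.StalkNat

/-- Bijectivity of the stalk map of an open immersion, as a ring isomorphism. -/
noncomputable def stalkRingIso {X Y : Scheme.{u}} (f : Y ⟶ X) [IsOpenImmersion f] (y : Y) :
    X.presheaf.stalk (f y) ≃+* Y.presheaf.stalk y :=
  (asIso (f.stalkMap y)).commRingCatIsoToRingEquiv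

/-- The stalk complex at `j p` is dualizing iff the flat base change `ω ⊗ O_p` is. -/
theorem isDualizing_flatBC {X : Scheme.{u}} {R : CommRingCat.{u}} (j : Spec R ⟶ X)
    [IsOpenImmersion j] [PreservesFiniteLimits (Scheme.Modules.restrictFunctor j)]
    [PreservesFiniteLimits (tilde.functor R)] (I : CochainComplex X.Modules ℤ)
    (ω : DerivedCategory (ModuleCat.{u} R)) (e : (DCoh.tildeD R).obj ω ≅ (DCoh.restrictD j).obj (DCoh.toD X I))
    (p : Spec R)
    (h : Dual.IsDualizing (X.presheaf.stalk ((𝟙 X : X ⟶ X).base (j p)))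
      (DRing.toD ((DerSch.stalkCxOver (𝟙 X) (j p)).obj I))) :
    Dual.IsDualizing ((Spec R).presheaf.stalk p) ((flatBC (alpha p) (flat_alpha p)).obj ω) := by
  have h1 := LoccohB.HomBC.isDualizing_of_iso (K238.StalkD.stalkOverQ (𝟙 X) (j p) I) h
  have h2 : Dual.IsDualizing (X.presheaf.stalk (j p))
      ((K238.StalkD.stalkD (j p)).obj (DCoh.toD X I)) :=
    RingIso.isDualizing_of_restrictD (stalkRingIso (𝟙 X) (j p)) h1
  have h3 := LoccohB.HomBC.isDualizing_of_iso ((stalkDRestrict j p).symm.app (DCoh.toD X I)) h2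
  have h4 : Dual.IsDualizing ((Spec R).presheaf.stalk p)
      ((K238.StalkD.stalkD p).obj ((DCoh.restrictD j).obj (DCoh.toD X I))) :=
    RingIso.isDualizing_of_restrictD (stalkRingIso j p) h3
  exact LoccohB.HomBC.isDualizing_of_iso
    ((K238.StalkD.stalkD p).mapIso e.symm ≪≫ (stalkDTilde p).app ω) h4

/-- Morphisms from a tilde into the restriction of a bounded complex of injectives. -/
theorem subsingleton_hom {X : Scheme.{u}} {R : CommRingCat.{u}} (j : Spec R ⟶ X)
    [IsOpenImmersion j] [PreservesFiniteLimits (Scheme.Modules.restrictFunctor j)]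
    [PreservesFiniteLimits (tilde.functor R)] (I : CochainComplex X.Modules ℤ)
    (hI : ∀ i : ℤ, Injective (I.X i)) (a b : ℤ) (hab : ∀ i : ℤ, (i < a ∨ b < i) → IsZero (I.X i))
    (ω : DerivedCategory (ModuleCat.{u} R)) (e : (DCoh.tildeD R).obj ω ≅ (DCoh.restrictD j).obj (DCoh.toD X I))
    (M : Type u) [AddCommGroup M] [Module R M] (i : ℤ) (hi : i < a ∨ b < i) :
    Subsingleton (Dual.inD R M ⟶ ω⟦i⟧) := by
  have hf : (DCoh.tildeD R).Faithful := (S0997.result R).2.1
  let J : CochainComplex (Spec R).Modules ℤ :=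
    ((Scheme.Modules.restrictFunctor j).mapHomologicalComplex (ComplexShape.up ℤ)).obj I
  have hJ : ∀ n, Injective (J.X n) := fun n => (PerfC.ExtZero.adj j).map_injective (I.X n) (hI n)
  have hJa : J.IsStrictlyGE a := by
    rw [CochainComplex.isStrictlyGE_iff]
    exact fun n hn => (Scheme.Modules.restrictFunctor j).map_isZero (hab n (Or.inl hn))
  have hJK : J.IsKInjective := CochainComplex.isKInjective_of_injective J a
  let e' : (DCoh.tildeD R).obj ω ≅ DerivedCategory.Q.obj J :=
    e ≪≫ (Scheme.Modules.restrictFunctor j).mapDerivedCategoryFactors.app I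
  have key : ∀ f : Dual.inD R M ⟶ ω⟦i⟧, f = 0 := by
    intro f
    apply (DCoh.tildeD R).map_injective
    rw [Functor.map_zero]
    let s : (DerivedCategory.singleFunctor (Spec R).Modules 0).obj ((tilde.functor R).obj (ModuleCat.of R M)) ≅
        (DCoh.tildeD R).obj (Dual.inD R M) :=
      (((tilde.functor R).mapDerivedCategorySingleFunctor 0).app (ModuleCat.of R M)).symm
    have h0 := K236.InjAmp.eq_zero_of_isZero J ((tilde.functor R).obj (ModuleCat.of R M)) i
      ((Scheme.Modules.restrictFunctor j).map_isZero (hab i hi))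
      (s.hom ≫ (DCoh.tildeD R).map f ≫ ((DCoh.tildeD R).commShiftIso i).hom.app ω ≫ e'.hom⟦i⟧')
    rw [← cancel_epi s.hom, comp_zero,
      ← cancel_mono (((DCoh.tildeD R).commShiftIso i).hom.app ω ≫ e'.hom⟦i⟧'), zero_comp,
      Category.assoc]
    exact h0
  exact ⟨fun f g => (key f).trans (key g).symm⟩

theorem exists_comap {R : CommRingCat.{u}} (p : Spec R) :
    ∃ q : PrimeSpectrum ((Spec R).presheaf.stalk p), q.comap (alpha p) = p := by
  let : Algebra R ((Spec R).presheaf.stalk p) := (alpha p).toAlgebra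
  have h1 : IsLocalization.AtPrime ((Spec R).presheaf.stalk p) (px p) := isLocalization_alpha p
  have h2 : IsLocalRing ((Spec R).presheaf.stalk p) :=
    IsLocalization.AtPrime.isLocalRing ((Spec R).presheaf.stalk p) (px p)
  refine ⟨IsLocalRing.closedPoint _, ?_⟩
  apply PrimeSpectrum.ext
  exact IsLocalization.AtPrime.under_maximalIdeal ((Spec R).presheaf.stalk p) (px p)

/-- A bounded complex of injective modules with coherent cohomology and dualizing stalks is dualizing. -/
theorem main (X : Scheme.{u}) [IsLocallyNoetherian X]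
    [∀ (U : Scheme.{u}) (j : U ⟶ X) [IsOpenImmersion j], PreservesFiniteLimits (Scheme.Modules.restrictFunctor j)]
    [∀ (R : CommRingCat.{u}), PreservesFiniteLimits (tilde.functor R)]
    (I : CochainComplex X.Modules ℤ) (hIinj : ∀ i : ℤ, Injective (I.X i))
    (hIbdd : ∃ a b : ℤ, ∀ i : ℤ, (i < a ∨ b < i) → IsZero (I.X i))
    (hcoh : ∀ i : ℤ, Coh.IsCoh (DCoh.HD (DCoh.toD X I) i))
    (hst : ∀ x : X, Dual.IsDualizing (X.presheaf.stalk ((𝟙 X : X ⟶ X).base x))
      (DRing.toD ((DerSch.stalkCxOver (𝟙 X) x).obj I))) :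
    Dual2.IsDualizingSch X (DCoh.toD X I) := by
  intro A _ j _
  have hSN : IsLocallyNoetherian (Spec (CommRingCat.of A)) := isLocallyNoetherian_of_isOpenImmersion j
  have hA : IsNoetherianRing A := by
    have : IsNoetherianRing Γ(Spec (CommRingCat.of A), ⊤) :=
      IsLocallyNoetherian.component_noetherian ⟨⊤, isAffineOpen_top _⟩
    exact isNoetherianRing_of_ringEquiv Γ(Spec (CommRingCat.of A), ⊤)
      (Scheme.ΓSpecIso (CommRingCat.of A)).commRingCatIsoToRingEquiv
  have hc : DCoh.IsCohD ((DCoh.restrictD j).obj (DCoh.toD X I)) :=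
    PerfA.QCohD.isCohD_restrictD j hcoh
  obtain ⟨ω, ⟨e⟩⟩ := ((S0997.result (CommRingCat.of A)).2.2 _).1 (PerfA.QCohD.isQCohD_of_isCohD hc)
  obtain ⟨a, b, hab⟩ := hIbdd
  refine ⟨ω, ?_, ⟨e.symm⟩⟩
  let _ : ∀ p : Spec (CommRingCat.of A), Algebra A ((Spec (CommRingCat.of A)).presheaf.stalk p) :=
    fun p => (alpha p).toAlgebra
  have hflat : ∀ p : Spec (CommRingCat.of A),
      (algebraMap A ((Spec (CommRingCat.of A)).presheaf.stalk p)).Flat := fun p => flat_alpha p
  have hflat' : ∀ p : Spec (CommRingCat.of A),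
      Module.Flat A ((Spec (CommRingCat.of A)).presheaf.stalk p) := fun p =>
    RingHom.flat_algebraMap_iff.1 (hflat p)
  refine K174.Basic.isDualizing_of_forall
    (B := fun p : Spec (CommRingCat.of A) => (Spec (CommRingCat.of A)).presheaf.stalk p) ?_ hflat
    ⟨a, b, fun M _ _ i hi => subsingleton_hom j I hIinj a b hab ω e M i hi⟩ ?_
    (fun p => isDualizing_flatBC j I ω e p (hst (j p)))
  · exact Dual.H332.JointFaith.jointlyFaithful_of_surj _ fun p =>
      ⟨(show Spec (CommRingCat.of A) from p), exists_comap (R := CommRingCat.of A) p⟩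
  · exact (LoccohB.AdAffine.isCohD_tilde_iff (P := CommRingCat.of A) ω).1
      (PerfA.QCohD.isCohD_of_iso e.symm hc)

end Groth.Agent.K477.StalkDual
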