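import Groth.Agent.Dual.H379.TwistMain

/-!
# `a = Lf^*(-) ⊗ a(O)` when `a` preserves coproducts
-/

set_option autoImplicit false

universe u

open CategoryTheory CategoryTheory.Limits AlgebraicGeometry MonoidalCategory

attribute [local instance] HasDerivedCategory.standard

open scoped Groth.Agent.Dcoh.MonCat Groth.Agent.Dcoh.ModD

namespace Groth.Agent.K477.TwistCop

open Groth.Agent.Dcoh Groth.Agent.PerfC.DTens Groth.Agent.PerfC.IsoLocus
  Groth.Agent.Dual.H379 Groth.Agent.Dual.H379.DQMon Groth.Agent.Dual.H379.TwistMain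

variable {X Y : Scheme.{u}} [CompactSpace X] [QuasiSeparatedSpace X] [CompactSpace Y]
  [QuasiSeparatedSpace Y]
  (f : X ⟶ Y) [DCoh.HasLpull f] [DCoh.HasRpush f] (hf : DCoh.RpushPreservesQCoh f)
  {a : DCoh.DQCoh Y ⥤ DCoh.DQCoh X} (adj : DCoh.RpushQ f hf ⊣ a)

/-- If `a` preserves coproducts, `Lf^* K ⊗ a(1) ⟶ a(K)` is an isomorphism. -/
theorem isIso_θ (h1 : ∀ J : Type u, PreservesColimitsOfShape (Discrete J) a)
    (K : DCoh.DQCoh Y) : IsIso ((θ f hf adj).app K) := by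
  have h2 : ∀ J : Type u, PreservesColimitsOfShape (Discrete J)
      (LQ f ⋙ tensorRight (a.obj (𝟙_ (DCoh.DQCoh Y)))) := fun J => by
    have h3 : PreservesColimitsOfShape (Discrete J) (LQ f) :=
      (adjQ f hf).leftAdjoint_preservesColimits.preservesColimitsOfShape
    have h4 := preservesCoproducts_tensorRightQ J (a.obj (𝟙_ (DCoh.DQCoh Y)))
    exact comp_preservesColimitsOfShape _ _
  obtain ⟨P, hP, hPc, hPg⟩ := LoccohB.RightAdj.exists_compact_generator Y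
  have := isoLocus_isTriangulated ((isTriang_LQ f).comp (isTriang_tensorRightQ (a.obj (𝟙_ (DCoh.DQCoh Y)))))
    (isTriang_a f hf adj) (θ f hf adj)
  refine isIso_app (θ f hf adj) ?_
  refine GenLoc.prop_of_compactW (isoLocus (θ f hf adj)) (fun J Z hZ => ?_)
    (fun _ : PUnit.{u + 1} => P) (fun _ => hPc) hPg (fun _ n => ?_) K
  · exact isoLocus_prop_of_isColimit (θ f hf adj) _ (coproductIsCoproduct Z) hZ
  · exact isIso_θ_of_isPerfect f hf adj _ (LoccohB.RightAdj2.isPerfect_shift_DQCoh hP n)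

include adj in
/-- `a ≅ Lf^*(-) ⊗ a(O)` if `a` preserves coproducts. -/
theorem nonempty_iso (hcop : ∀ J : Type u, PreservesColimitsOfShape (Discrete J) a)
    (O : DCoh.DQCoh Y) (hO : Nonempty (O.obj ≅ DCoh.inD Y (Coh.structureModule Y)))
    (E : CochainComplex X.Modules ℤ) (hE : Nonempty (DCoh.toD X E ≅ (a.obj O).obj))
    [DCoh.HasLTensorCx E] :
    Nonempty (a ⋙ ObjectProperty.ι _ ≅ ObjectProperty.ι _ ⋙ DCoh.Lpull f ⋙ DCoh.LTensorCx E) := by
  obtain ⟨eO⟩ := hO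
  obtain ⟨eE⟩ := hE
  have h1 := isIso_θ f hf adj hcop
  have h2 : IsIso (θ f hf adj) := NatIso.isIso_of_isIso_app _
  let e1 : LQ f ⋙ tensorRight (a.obj (𝟙_ (DCoh.DQCoh Y))) ≅ a := asIso (θ f hf adj)
  let e2 : (𝟙_ (DCoh.DQCoh Y)) ≅ O := ObjectProperty.isoMk _ ((DualX.unitIso Y).symm ≪≫ eO.symm)
  let e3 : (a.obj (𝟙_ (DCoh.DQCoh Y))).obj ≅ DerivedCategory.Q.obj E :=
    (ObjectProperty.ι _).mapIso (a.mapIso e2) ≪≫ eE.symm
  let e4 : (LQ f ⋙ tensorRight (a.obj (𝟙_ (DCoh.DQCoh Y)))) ⋙ ObjectProperty.ι DCoh.IsQCohD ≅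
      ObjectProperty.ι DCoh.IsQCohD ⋙ DCoh.Lpull f ⋙ tensorRight (a.obj (𝟙_ (DCoh.DQCoh Y))).obj :=
    Iso.refl _
  exact ⟨(Functor.isoWhiskerRight e1 (ObjectProperty.ι DCoh.IsQCohD)).symm ≪≫ e4 ≪≫
    Functor.isoWhiskerLeft (ObjectProperty.ι DCoh.IsQCohD)
      (Functor.isoWhiskerLeft (DCoh.Lpull f) (MonAdj.tensorRightIso e3 ≪≫ (ModTens.LTensorCxIso E).symm))⟩

end Groth.Agent.K477.TwistCop
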