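import Groth.Agent.Ega1.ADualOpen

/-!
# Restriction of universal pairs `(L, τ : Rf_* L ⟶ K)` to opens, with the explicit universal morphism

`f` proper, `K ∈ D^+_QCoh(O_Y)`, a cartesian square `j' ≫ f = f' ≫ j` with open immersions `j`, `j'` and any
isomorphism `β : j^* Rf_* ≅ Rf'_* j'^*`: if `τ` is universal then so is `β⁻¹ ≫ j^* τ : Rf'_* j'^* L ⟶ j^* K`
(for a suitable `β`, see `exists_restrict`).
-/

set_option autoImplicit false

universe u

open CategoryTheory CategoryTheory.Limits Pretriangulated AlgebraicGeometry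

attribute [local instance] HasDerivedCategory.standard

namespace Groth.Agent.K477.UnivRestr

open Groth.Agent Groth.Agent.Dcoh.DerSch Groth.Agent.Ega1.ADualUniv Groth.Agent.LoccohB
open Groth.Agent.Ega1.ADualRestrict Groth.Agent.Ega1.ADualOpen
open Groth.Agent.PerfA.Restrict (restrictD)
open Groth.Agent.PerfB.OpenAdj (openAdj)

variable {X Y U V : Scheme.{u}}

section Square

variable {f : X ⟶ Y} {f' : U ⟶ V} {j' : U ⟶ X} {j : V ⟶ Y} [IsOpenImmersion j'] [IsOpenImmersion j]
  [QuasiCompact j'] [DCoh.HasRpush f] [DCoh.HasRpush f'] [DCoh.HasRpush j]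

/-- If `τ : Rf_* L ⟶ Rj_* M` is universal then so is `Rf'_* j'^* L ≅ j^* Rf_* L ⟶ j^* Rj_* M ⟶ M`. -/
theorem isUniv_restrict_push (β : DCoh.Rpush f ⋙ restrictD j ≅ restrictD j' ⋙ DCoh.Rpush f')
    {M : DCoh.D V} {L : DCoh.D X} {τ : (DCoh.Rpush f).obj L ⟶ (DCoh.Rpush j).obj M}
    (hτ : IsUniv f ((DCoh.Rpush j).obj M) L τ) :
    IsUniv f' M ((restrictD j').obj L) (β.inv.app L ≫ ((openAdj j).homEquiv _ _).symm τ) := by
  have : DCoh.HasRpush j' := hasRpush _
  have hu : IsIso ((openAdj j').unit.app L) := by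
    refine isIso_unit_of_orthogonal j' L hτ.qcoh (fun N hN hN0 φ => ?_)
    have h1 : IsZero ((restrictD j).obj ((DCoh.Rpush f).obj N)) := by
      refine IsZero.of_iso ?_ (β.app N)
      have : (DCoh.Rpush f').PreservesZeroMorphisms := by
        obtain ⟨_, _, -⟩ := RpushTri.exists_isTriangulated_Rpush f'
        infer_instance
      exact (DCoh.Rpush f').map_isZero hN0
    apply hτ.hom_ext hN
    apply ((openAdj j).homEquiv _ _).symm.injective
    exact h1.eq_of_src _ _
  let flat : ∀ N : DCoh.D X, ((DCoh.Rpush f).obj N ⟶ (DCoh.Rpush j).obj M) →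
      ((DCoh.Rpush f').obj ((restrictD j').obj N) ⟶ M) := fun N g =>
    β.inv.app N ≫ ((openAdj j).homEquiv _ _).symm g
  have hflat : ∀ N, Function.Bijective (flat N) := fun N =>
    ((β.app N).homFromEquiv (Z := M)).bijective.comp ((openAdj j).homEquiv _ _).symm.bijective
  refine ⟨PerfA.QCohD.isQCohD_restrictD j' hτ.qcoh, ?_⟩
  have nat : ∀ (N : DCoh.D X) (u : N ⟶ L),
      (DCoh.Rpush f').map ((restrictD j').map u) ≫ flat L τ =
        flat N ((DCoh.Rpush f).map u ≫ τ) := by
    intro N u
    dsimp only [flat]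
    rw [Adjunction.homEquiv_naturality_left_symm]
    have := β.inv.naturality u
    dsimp only [Functor.comp_map] at this
    rw [reassoc_of% this]
  have key : ∀ N : DCoh.D X, DCoh.IsQCohD N →
      Function.Bijective (fun g : (restrictD j').obj N ⟶ (restrictD j').obj L =>
        (DCoh.Rpush f').map g ≫ flat L τ) := by
    intro N hN
    have h1 : Function.Bijective (fun u : N ⟶ L => (restrictD j').map u) := by
      have h2 : Function.Bijective (fun u : N ⟶ L => u ≫ (openAdj j').unit.app L) :=
        ((asIso ((openAdj j').unit.app L)).homToEquiv (Z := N)).bijective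
      have h3 := ((openAdj j').homEquiv N ((restrictD j').obj L)).symm.bijective
      convert h3.comp h2 using 1
      funext u
      simp only [Function.comp_apply]
      rw [Adjunction.homEquiv_naturality_left_symm]
      simp
    have h4 := (hflat N).comp (hτ.bij N hN)
    have h5 : (fun g : (restrictD j').obj N ⟶ (restrictD j').obj L =>
        (DCoh.Rpush f').map g ≫ flat L τ) ∘ (fun u : N ⟶ L => (restrictD j').map u) =
        (flat N) ∘ (fun g : N ⟶ L => (DCoh.Rpush f).map g ≫ τ) := by
      funext u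
      exact nat N u
    rw [← h5] at h4
    exact (Function.Bijective.of_comp_iff _ h1).1 h4
  intro N hN
  let N' := (DCoh.Rpush j').obj N
  have hN' : DCoh.IsQCohD N' := S0998.result j' _ hN
  let e : (restrictD j').obj N' ≅ N := asIso ((openAdj j').counit.app N)
  have h1 := key N' hN'
  have h2 : Function.Bijective (fun g : N ⟶ (restrictD j').obj L => e.hom ≫ g) :=
    (e.symm.homFromEquiv (Z := (restrictD j').obj L)).bijective
  have h3 : Function.Bijective (fun g : (DCoh.Rpush f').obj ((restrictD j').obj N') ⟶ M =>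
      (DCoh.Rpush f').map e.inv ≫ g) :=
    (((DCoh.Rpush f').mapIso e).homFromEquiv (Z := M)).bijective
  convert h3.comp (h1.comp h2) using 1
  funext g
  simp [flat]

end Square

/-- Two universal morphisms differ by an isomorphism; a morphism obtained from a universal one by an isomorphism
of the source is universal. -/
theorem isUniv_of_iso_left {f : X ⟶ Y} [DCoh.HasRpush f] {K : DCoh.D Y} {L L' : DCoh.D X}
    {τ : (DCoh.Rpush f).obj L ⟶ K} (h : IsUniv f K L τ) (e : L' ⟶ L) [IsIso e] (hL' : DCoh.IsQCohD L') :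
    IsUniv f K L' ((DCoh.Rpush f).map e ≫ τ) := by
  have := h.of_iso (asIso e).symm (Iso.refl K) hL'
  simpa using this

/-- **Open base change** for universal morphisms: for `f` proper, `K` bounded below and `β : j^* Rf_* ≅ Rf'_* j'^*`, the
morphism `β⁻¹ ≫ j^* τ` is universal. -/
theorem isUniv_restrict [IsNoetherian Y] (f : X ⟶ Y) [IsProper f] [DCoh.HasRpush f] {f' : U ⟶ V}
    [DCoh.HasRpush f'] {j' : U ⟶ X} {j : V ⟶ Y} [IsOpenImmersion j'] [IsOpenImmersion j]
    (hp : IsPullback j' f' f j) (β : DCoh.Rpush f ⋙ restrictD j ≅ restrictD j' ⋙ DCoh.Rpush f')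
    {K : DCoh.D Y} (hK : DCoh.IsQCohD K) (c : ℤ) (hKc : K.IsGE c)
    {L : DCoh.D X} {τ : (DCoh.Rpush f).obj L ⟶ K} (h : IsUniv f K L τ) :
    IsUniv f' ((restrictD j).obj K) ((restrictD j').obj L) (β.inv.app L ≫ (restrictD j).map τ) := by
  have : IsNoetherian X := by
    have : CompactSpace X := QuasiCompact.compactSpace_of_compactSpace f
    have : IsLocallyNoetherian X := LocallyOfFiniteType.isLocallyNoetherian f
    constructor
  have : DCoh.HasRpush j := hasRpush j
  have hf : ∀ N : DCoh.D X, DCoh.IsQCohD N → DCoh.IsQCohD ((DCoh.Rpush f).obj N) :=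
    fun N hN => S0998.result f N hN
  have := S1766.result X Y f hf
  set F : DCoh.DQCoh X ⥤ DCoh.DQCoh Y := ObjectProperty.lift DCoh.IsQCohD
    (ObjectProperty.ι DCoh.IsQCohD ⋙ DCoh.Rpush f) (fun K => hf K.obj K.property) with hF
  let a := F.rightAdjoint
  let adj : F ⊣ a := Adjunction.ofIsLeftAdjoint F
  let K₀ : DCoh.DQCoh Y := ⟨K, hK⟩
  have hK' : DCoh.IsQCohD ((DCoh.Rpush j).obj ((restrictD j).obj K)) :=
    S0998.result j _ (PerfA.QCohD.isQCohD_restrictD j hK)
  let K₁ : DCoh.DQCoh Y := ⟨_, hK'⟩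
  let φ : K₀ ⟶ K₁ := ObjectProperty.homMk ((openAdj j).unit.app K)
  have hi : IsIso ((restrictD j').map ((a.map φ).hom)) := by
    obtain ⟨_, _, -⟩ := RpushTri.exists_isTriangulated_Rpush f
    refine isIso_map_rightAdjoint_aux adj ((DCoh.IsQCohD (X := X)).ι ⋙ restrictD j') φ ?_
    intro Q ψ δ hT
    have hT' : Triangle.mk ψ.hom ((openAdj j).unit.app K)
        (δ.hom ≫ ((DCoh.IsQCohD (X := Y)).ι.commShiftIso (1 : ℤ)).hom.app Q) ∈
        distTriang (DCoh.D Y) :=
      (DCoh.IsQCohD (X := Y)).ι.map_distinguished _ hT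
    have hQ : Q.obj.IsGE c := isGE_obj₁ hT' c hKc
      (by
        have : ((restrictD j).obj K).IsGE c := PerfA.ExactD.isGE_map _ _ _
        exact PerfC.RpushTrunc.isGE_Rpush j _ c)
    have hQV : IsZero ((restrictD j).obj Q.obj) :=
      (Triangle.isZero₁_iff_isIso₂ _ ((restrictD j).map_distinguished _ hT')).2
        (PerfB.OpenAdj.isIso_restrictD_map_unit j K)
    have hV : Set.range j = Set.range j.opensRange.ι := by
      rw [Scheme.Opens.range_ι]; rfl
    have h1 := S1768.result X Y f hf a adj j.opensRange (by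
        have := TopologicalSpace.NoetherianSpace.isCompact ((j.opensRange : Set Y))
        exact this) Q c
      (fun i hi => DerivedCategory.isZero_of_isGE Q.obj c i hi)
      (fun i => isZero_restrict_of_range hV.ge ((isZero_restrictD_iff _ _).1 hQV i))
    exact (isZero_restrictD_iff _ _).2 fun i => isZero_restrict_of_range (by
      rintro _ ⟨y, rfl⟩
      rw [Scheme.Opens.range_ι]
      exact ⟨f' y, by rw [← Scheme.Hom.comp_apply, ← hp.w]; rfl⟩) (h1 i)
  have h1 : IsUniv f K (a.obj K₀).obj (adj.counit.app K₀).hom := isUniv_of_adj (a := a) adj K₀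
  have h2 : IsUniv f K₁.obj (a.obj K₁).obj (adj.counit.app K₁).hom := isUniv_of_adj (a := a) adj K₁
  have h3 := isUniv_restrict_push (f' := f') (j' := j') (j := j) β h2
  have h4 := isUniv_of_iso_left h3 ((restrictD j').map ((a.map φ).hom))
    (PerfA.QCohD.isQCohD_restrictD j' h1.qcoh)
  -- identify the universal morphism
  have e1 : (DCoh.Rpush f).map (a.map φ).hom ≫ (adj.counit.app K₁).hom =
      (adj.counit.app K₀).hom ≫ (openAdj j).unit.app K := by
    have := congrArg (fun t => t.hom) (adj.counit.naturality φ)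
    exact this
  have e2 : (DCoh.Rpush f').map ((restrictD j').map ((a.map φ).hom)) ≫
      β.inv.app (a.obj K₁).obj ≫ ((openAdj j).homEquiv _ _).symm (adj.counit.app K₁).hom =
      β.inv.app (a.obj K₀).obj ≫ (restrictD j).map (adj.counit.app K₀).hom := by
    have n1 := β.inv.naturality (a.map φ).hom
    dsimp only [Functor.comp_map] at n1
    rw [reassoc_of% n1]
    congr 1
    rw [← Adjunction.homEquiv_naturality_left_symm, e1, Adjunction.homEquiv_naturality_left_symm]
    have e3 : ((openAdj j).homEquiv K ((restrictD j).obj K)).symm ((openAdj j).unit.app K) = 𝟙 _ := by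
      rw [Equiv.symm_apply_eq, Adjunction.homEquiv_id]
    exact (congrArg (fun t => (restrictD j).map (adj.counit.app K₀).hom ≫ t) e3).trans (Category.comp_id _)
  rw [e2] at h4
  obtain ⟨e, he, -⟩ := h.exists_iso h1
  have h5 := isUniv_of_iso_left h4 ((restrictD j').map e.hom) (PerfA.QCohD.isQCohD_restrictD j' h.qcoh)
  have n2 := β.inv.naturality e.hom
  dsimp only [Functor.comp_map] at n2
  rw [reassoc_of% n2, ← Functor.map_comp, he] at h5
  exact h5

end Groth.Agent.K477.UnivRestr
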